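import Mathlib

/-!
# Rewriting words in simply laced Coxeter generators

A checker for derivations by the three moves `s s → 1`, `s t → t s` (not joined) and `s t s → t s t` (joined),
and its soundness in every group satisfying the relations.
-/

set_option autoImplicit false

namespace CfsgLib.CoxMoves

/-- The joined pairs of the `Y₃₃₂` diagram on `0, …, 8`. -/
def edge (s t : ℕ) : Bool :=
  [(0, 1), (1, 2), (2, 3), (3, 4), (3, 7), (4, 5), (5, 6), (7, 8)].any fun p =>
    (p.1 == s && p.2 == t) || (p.1 == t && p.2 == s)

/-- One move; the code is three times the position plus the kind. -/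
def step (w : List ℕ) (c : ℕ) : Option (List ℕ) :=
  match c % 3, w.drop (c / 3) with
  | 0, s :: t :: r => if s = t then some (w.take (c / 3) ++ r) else none
  | 1, s :: t :: r => if s ≠ t ∧ edge s t = false then some (w.take (c / 3) ++ t :: s :: r) else none
  | 2, s :: t :: u :: r => if s = u ∧ edge s t = true then some (w.take (c / 3) ++ t :: s :: t :: r) else none
  | _, _ => none

/-- Follow the moves packed in base 256, each increased by one. -/
def run : ℕ → List ℕ → ℕ → Option (List ℕ)
  | 0, _, _ => none
  | f + 1, w, n => if n = 0 then some w else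
      match step w (n % 256 - 1) with
      | some w' => run f w' (n / 256)
      | none => none

/-- Both words rewrite to one word. -/
def joins (f : ℕ) (w w' : List ℕ) (n n' : ℕ) : Bool :=
  w.all (· < 9) && w'.all (· < 9) &&
    match run f w n, run f w' n' with
    | some u, some u' => u == u'
    | _, _ => false

variable {H : Type*} [Group H]

/-- The relations of the diagram. -/
structure Rels (L : ℕ → H) : Prop where
  sq : ∀ s < 9, L s * L s = 1
  comm : ∀ s < 9, ∀ t < 9, s ≠ t → edge s t = false → L s * L t = L t * L s
  braid : ∀ s < 9, ∀ t < 9, edge s t = true → L s * L t * L s = L t * L s * L t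

/-- The value of a word. -/
def ev (L : ℕ → H) (w : List ℕ) : H := (w.map L).prod

theorem ev_append (L : ℕ → H) (u v : List ℕ) : ev L (u ++ v) = ev L u * ev L v := by simp [ev]

theorem ev_cons (L : ℕ → H) (s : ℕ) (v : List ℕ) : ev L (s :: v) = L s * ev L v := by simp [ev]

theorem step_sound {L : ℕ → H} (h : Rels L) {w w' : List ℕ} {c : ℕ} (hw : ∀ x ∈ w, x < 9)
    (e : step w c = some w') : ev L w' = ev L w ∧ ∀ x ∈ w', x < 9 := by
  have hsplit : w = w.take (c / 3) ++ w.drop (c / 3) := (List.take_append_drop _ _).symm
  have hpre : ∀ x ∈ w.take (c / 3), x < 9 := fun x hx => hw x (List.mem_of_mem_take hx)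
  have hsuf : ∀ x ∈ w.drop (c / 3), x < 9 := fun x hx => hw x (List.mem_of_mem_drop hx)
  have key : ev L w = ev L (w.take (c / 3)) * ev L (w.drop (c / 3)) := by rw [← ev_append, ← hsplit]
  rw [key]
  unfold step at e
  split at e
  · rename_i s t r _ hd
    split at e
    · rename_i hst
      obtain rfl := Option.some.inj e
      subst hst
      rw [hd, ev_append, ev_cons, ev_cons, ← mul_assoc (L s), h.sq s (hsuf s (by simp [hd])), one_mul]
      refine ⟨rfl, fun x hx => ?_⟩
      rcases List.mem_append.1 hx with hx | hx
      exacts [hpre x hx, hsuf x (by simp [hd, hx])]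
    · cases e
  · rename_i s t r _ hd
    split at e
    · rename_i hst
      obtain rfl := Option.some.inj e
      rw [hd, ev_append, ev_cons, ev_cons, ev_cons, ev_cons, ← mul_assoc (L s) (L t),
        h.comm s (hsuf s (by simp [hd])) t (hsuf t (by simp [hd])) hst.1 hst.2, mul_assoc (L t) (L s)]
      refine ⟨rfl, fun x hx => ?_⟩
      rcases List.mem_append.1 hx with hx | hx
      · exact hpre x hx
      · simp only [List.mem_cons] at hx
        rcases hx with rfl | rfl | hx
        exacts [hsuf x (by simp [hd]), hsuf x (by simp [hd]), hsuf x (by simp [hd, hx])]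
    · cases e
  · rename_i s t u r _ hd
    split at e
    · rename_i hst
      obtain rfl := Option.some.inj e
      obtain ⟨rfl, hst⟩ := hst
      rw [hd, ev_append]
      simp only [ev_cons, ← mul_assoc]
      rw [show ev L (List.take (c / 3) w) * L t * L s * L t = ev L (List.take (c / 3) w) * (L t * L s * L t) by
        group, ← h.braid s (hsuf s (by simp [hd])) t (hsuf t (by simp [hd])) hst]
      refine ⟨by group, fun x hx => ?_⟩
      rcases List.mem_append.1 hx with hx | hx
      · exact hpre x hx
      · simp only [List.mem_cons] at hx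
        rcases hx with rfl | rfl | rfl | hx
        exacts [hsuf x (by simp [hd]), hsuf x (by simp [hd]), hsuf x (by simp [hd]), hsuf x (by simp [hd, hx])]
    · cases e
  · cases e

theorem run_sound {L : ℕ → H} (h : Rels L) : ∀ {f : ℕ} {w w' : List ℕ} {n : ℕ}, (∀ x ∈ w, x < 9) →
    run f w n = some w' → ev L w' = ev L w := by
  intro f
  induction f with
  | zero => intro w w' n _ e; simp [run] at e
  | succ f ih =>
    intro w w' n hw e
    simp only [run] at e
    split at e
    · exact congrArg (ev L) (Option.some.inj e).symm
    · split at e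
      · rename_i w₁ hs
        obtain ⟨h1, h2⟩ := step_sound h hw hs
        exact (ih h2 e).trans h1
      · cases e

theorem ev_eq_of_joins {L : ℕ → H} (h : Rels L) {f : ℕ} {w w' : List ℕ} {n n' : ℕ}
    (e : joins f w w' n n' = true) : ev L w = ev L w' := by
  unfold joins at e
  simp only [Bool.and_eq_true, List.all_eq_true, decide_eq_true_eq] at e
  obtain ⟨⟨h1, h2⟩, e⟩ := e
  split at e
  · rename_i u u' hu hu'
    rw [← run_sound h h1 hu, ← run_sound h h2 hu', beq_iff_eq.1 e]
  · cases e

end CfsgLib.CoxMoves
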