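import Mathlib

/-!
# Fusion in the normaliser of a unique largest elementary abelian subgroup
-/

set_option autoImplicit false

namespace CfsgLib.ElemFusion

variable {G : Type*} [Group G]

/-- An elementary abelian `2`-subgroup of order `n`. -/
structure IsElem (n : ℕ) (A : Subgroup G) : Prop where
  comm : ∀ x ∈ A, ∀ y ∈ A, Commute x y
  sq : ∀ x ∈ A, x * x = 1
  card : Nat.card A = n

theorem IsElem.map {H : Type*} [Group H] {n : ℕ} {A : Subgroup G} (h : IsElem n A) {f : G →* H}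
    (hf : Function.Injective f) : IsElem n (A.map f) := by
  refine ⟨?_, ?_, ?_⟩
  · rintro _ ⟨x, hx, rfl⟩ _ ⟨y, hy, rfl⟩
    exact (h.comm x hx y hy).map f
  · rintro _ ⟨x, hx, rfl⟩
    rw [← map_mul, h.sq x hx, map_one]
  · rw [← Nat.card_congr (A.equivMapOfInjective f hf).toEquiv, h.card]

theorem IsElem.isPGroup {n : ℕ} {A : Subgroup G} (h : IsElem n A) : IsPGroup 2 A := fun x =>
  ⟨1, Subtype.ext (by rw [pow_one, SubgroupClass.coe_pow, pow_two]; exact h.sq x.1 x.2)⟩

/-- A 2-subgroup of `C` contains at most one elementary abelian subgroup of order `n`. -/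
def Uniq (n : ℕ) (C : Subgroup G) : Prop :=
  ∀ Q : Subgroup G, IsPGroup 2 Q → Q ≤ C → ∀ A A' : Subgroup G, IsElem n A → IsElem n A' → A ≤ Q → A' ≤ Q →
    A = A'

theorem Uniq.conj {n : ℕ} {C : Subgroup G} (h : Uniq n C) (g : G) :
    Uniq n (C.map (MulAut.conj g).toMonoidHom) := by
  intro Q hQ hQC A A' hA hA' hAQ hA'Q
  set f := (MulAut.conj g⁻¹).toMonoidHom
  have hf : Function.Injective f := (MulAut.conj g⁻¹).injective
  refine Subgroup.map_injective hf (h (Q.map f) (hQ.map f) ?_ _ _ (hA.map hf) (hA'.map hf)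
    (Subgroup.map_mono hAQ) (Subgroup.map_mono hA'Q))
  rintro _ ⟨q, hq, rfl⟩
  obtain ⟨c, hc, rfl⟩ := hQC hq
  show (MulAut.conj g⁻¹) (MulAut.conj g c) ∈ C
  rwa [show (MulAut.conj g⁻¹) (MulAut.conj g c) = c by simp [mul_assoc]]

variable [Finite G]

theorem conj_in {n : ℕ} {C : Subgroup G} (h : Uniq n C) {A A' : Subgroup G} (hA : IsElem n A) (hA' : IsElem n A')
    (hAC : A ≤ C) (hA'C : A' ≤ C) : ∃ c ∈ C, A.map (MulAut.conj c).toMonoidHom = A' := by
  haveI : Fact (Nat.Prime 2) := ⟨Nat.prime_two⟩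
  obtain ⟨P, hP⟩ := (hA.isPGroup.comap_of_injective C.subtype C.subtype_injective).exists_le_sylow
  obtain ⟨P', hP'⟩ := (hA'.isPGroup.comap_of_injective C.subtype C.subtype_injective).exists_le_sylow
  obtain ⟨c, hc⟩ := MulAction.exists_smul_eq C P P'
  have hmap : ∀ {B : Subgroup G} {R : Sylow 2 C}, B ≤ C → B.comap C.subtype ≤ R → B ≤ (R : Subgroup C).map C.subtype :=
    fun hB hR b hb => ⟨⟨b, hB hb⟩, hR hb, rfl⟩
  refine ⟨c, c.2, h ((P' : Subgroup C).map C.subtype) (P'.isPGroup'.map _) (Subgroup.map_subtype_le _) _ _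
    (hA.map (MulAut.conj (c : G)).injective) hA' ?_ (hmap hA'C hP')⟩
  rintro _ ⟨a, ha, rfl⟩
  obtain ⟨b, hb, rfl⟩ := hmap hAC hP ha
  refine ⟨c * b * c⁻¹, ?_, rfl⟩
  rw [← hc]
  exact ⟨b, hb, rfl⟩

/-- Conjugate elements of `A` are conjugate in the normaliser of `A`. -/
theorem exists_normalizer {n : ℕ} {A : Subgroup G} (hA : IsElem n A) {x y g : G} (hx : x ∈ A) (hy : y ∈ A)
    (hg : g * x * g⁻¹ = y) (h : Uniq n (Subgroup.centralizer ({y} : Set G))) :
    ∃ m ∈ Subgroup.normalizer (A : Set G), m * x * m⁻¹ = y := by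
  have h1 : A.map (MulAut.conj g).toMonoidHom ≤ Subgroup.centralizer ({y} : Set G) := by
    rintro _ ⟨a, ha, rfl⟩
    rw [Subgroup.mem_centralizer_singleton_iff, ← hg]
    show g * a * g⁻¹ * (g * x * g⁻¹) = g * x * g⁻¹ * (g * a * g⁻¹)
    rw [show g * a * g⁻¹ * (g * x * g⁻¹) = g * (a * x) * g⁻¹ by group, (hA.comm a ha x hx).eq]; group
  obtain ⟨c, hc, hcA⟩ := conj_in h (hA.map (MulAut.conj g).injective) hA h1
    fun a ha => Subgroup.mem_centralizer_singleton_iff.2 (hA.comm a ha y hy).eq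
  refine ⟨c * g, Subgroup.mem_normalizer_fintype (fun a ha => ?_), ?_⟩
  · have := Subgroup.mem_map_of_mem (MulAut.conj c).toMonoidHom
      (Subgroup.mem_map_of_mem (MulAut.conj g).toMonoidHom (ha : a ∈ A))
    rw [hcA] at this
    simpa [mul_assoc] using this
  · rw [show c * g * x * (c * g)⁻¹ = c * (g * x * g⁻¹) * c⁻¹ by group, hg,
      Subgroup.mem_centralizer_singleton_iff.1 hc, mul_inv_cancel_right]

/-- A prime dividing the order of an automorphism group of an elementary abelian group of order `2¹¹`. -/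
theorem prime_dvd_sub {A : Type*} [Group A] [Finite A] (hcard : Nat.card A = 2 ^ 11)
    (K : Subgroup (MulAut A)) {p : ℕ} (hp : p.Prime) (hd : p ∣ Nat.card K) : ∃ k < 11, p ∣ 2 ^ 11 - 2 ^ k := by
  haveI := Fact.mk hp
  obtain ⟨σ, hσ⟩ := exists_prime_orderOf_dvd_card' (G := K) p hd
  set s : MulAut A := (σ : MulAut A) with hs
  have hs1 : s ≠ 1 := fun h => by
    rw [show σ = 1 from Subtype.ext h, orderOf_one] at hσ
    exact hp.one_lt.ne hσ
  have hos : orderOf s = p := by rw [hs, Subgroup.orderOf_coe, hσ]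
  have hpz : IsPGroup p (Subgroup.zpowers s) := IsPGroup.of_card (n := 1) (by rw [Nat.card_zpowers, hos, pow_one])
  have hmod := hpz.card_modEq_card_fixedPoints A
  let Fx : Subgroup A :=
    { carrier := {a | s a = a}
      one_mem' := map_one s
      mul_mem' := fun {a b} (ha : s a = a) (hb : s b = b) => show s (a * b) = a * b by rw [map_mul, ha, hb]
      inv_mem' := fun {a} (ha : s a = a) => show s a⁻¹ = a⁻¹ by rw [map_inv, ha] }
  have hfix : (MulAction.fixedPoints (Subgroup.zpowers s) A : Set A) = (Fx : Set A) := by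
    ext a
    constructor
    · intro h
      exact h ⟨s, Subgroup.mem_zpowers s⟩
    · rintro (h : s a = a) ⟨t, ht⟩
      have hst : Subgroup.zpowers s ≤ MulAction.stabilizer (MulAut A) a := Subgroup.zpowers_le.2 h
      exact hst ht
  have hcF : Nat.card (MulAction.fixedPoints (Subgroup.zpowers s) A) = Nat.card Fx := by
    rw [Nat.card_coe_set_eq, hfix, ← Nat.card_coe_set_eq]; rfl
  obtain ⟨k, hk, hkc⟩ := (Nat.dvd_prime_pow Nat.prime_two).1 (hcard ▸ Subgroup.card_subgroup_dvd_card Fx)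
  have hk11 : k ≠ 11 := by
    rintro rfl
    have : Fx = ⊤ := Subgroup.eq_top_of_card_eq _ (by rw [hkc, hcard])
    exact hs1 (MulEquiv.ext fun a => show a ∈ Fx from this ▸ Subgroup.mem_top a)
  refine ⟨k, lt_of_le_of_ne hk hk11, ?_⟩
  rw [hcF, hkc, hcard] at hmod
  exact (Nat.modEq_iff_dvd' (Nat.pow_le_pow_right two_pos hk)).1 hmod.symm

/-- A prime dividing the number of conjugates of `x` under the normaliser of `A`. -/
theorem prime_dvd_orbit {A : Subgroup G} (hA : IsElem (2 ^ 11) A) {x : G} (hx : x ∈ A) {p : ℕ} (hp : p.Prime)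
    (hd : p ∣ {y | ∃ m ∈ Subgroup.normalizer (A : Set G), m * x * m⁻¹ = y}.ncard) :
    ∃ k < 11, p ∣ 2 ^ 11 - 2 ^ k := by
  let f := MulDistribMulAction.toMulAut (↥(Subgroup.normalizer (A : Set G))) A
  refine prime_dvd_sub hA.card f.range hp ?_
  have horb : Nat.card (MulAction.orbit (↥(Subgroup.normalizer (A : Set G))) (⟨x, hx⟩ : A)) =
      {y | ∃ m ∈ Subgroup.normalizer (A : Set G), m * x * m⁻¹ = y}.ncard := by
    rw [Nat.card_coe_set_eq, ← Set.ncard_image_of_injective _ Subtype.val_injective]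
    congr 1
    ext y
    constructor
    · rintro ⟨_, ⟨⟨m, hm⟩, rfl⟩, rfl⟩
      exact ⟨m, hm, rfl⟩
    · rintro ⟨m, hm, rfl⟩
      exact ⟨_, ⟨⟨m, hm⟩, rfl⟩, rfl⟩
  rw [← horb, Nat.card_coe_set_eq, ← MulAction.index_stabilizer] at hd
  rw [← Subgroup.index_ker]
  refine dvd_trans hd (Subgroup.index_dvd_of_le fun m hm => ?_)
  exact MulEquiv.congr_fun (show f m = 1 from hm) _

end CfsgLib.ElemFusion
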