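import Cfsg.Agent.Lib.ThreeTransp.M22Thompson
import Cfsg.Agent.Lib.ThreeTransp.M22Triples
import Cfsg.Agent.Lib.ThreeTransp.M22Classes

/-!
# The group of a base: `22` members, `231` products of two, `770` products of three
-/

set_option autoImplicit false

namespace CfsgLib.M22

open CfsgLib.ThreeTransp CfsgLib.SporMisc

variable {G : Type*} [Group G] {D : Set G}

/-- The products of two members of `B`. -/
def basePairs (B : Set G) : Set G := {w | ∃ a b, a ∈ B ∧ b ∈ B ∧ a ≠ b ∧ a * b = w}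

/-- The products of three members of `B`. -/
def baseTris (B : Set G) : Set G :=
  {w | ∃ a b c, a ∈ B ∧ b ∈ B ∧ c ∈ B ∧ a ≠ b ∧ a ≠ c ∧ b ≠ c ∧ a * b * c = w}

variable [Finite G] (S : Setup D) {F : Type} [Field F] [Fintype F] (hF : Fintype.card F = 2 ^ 2)
  (hM : ∀ a ∈ D, Nonempty (Model D a F))
include S hF hM

omit [Finite G] hF hM in
theorem IsBase.tri {B : Set G} (hB : IsBase D B) {a b c : G} (ha : a ∈ B) (hb : b ∈ B) (hc : c ∈ B)
    (hab : a ≠ b) (hac : a ≠ c) (hbc : b ≠ c) : Tri D a b c :=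
  ⟨hB.sub ha, hB.sub hb, hB.sub hc, hab, hac, hbc, hB.comm a ha b hb, hB.comm a ha c hc, hB.comm b hb c hc⟩

/-- The elements of the group of a base. -/
theorem IsBase.closure_eq {B : Set G} (hB : IsBase D B) :
    (Subgroup.closure B : Set G) = {1} ∪ B ∪ basePairs B ∪ baseTris B := by
  refine Set.Subset.antisymm (fun t ht => ?_) ?_
  · obtain ⟨hc, h2⟩ := S.closure_elem hB.sub hB.comm
    by_cases h1 : t = 1
    · exact Or.inl (Or.inl (Or.inl h1))
    have hB' : ∀ x ∈ B, Commute x t := fun x hx => hc x (Subgroup.subset_closure hx) t ht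
    rcases invol_cases S hF hM (orderOf_eq_prime (p := 2) (by rw [pow_two, h2 t ht]) h1) with
      h | ⟨a, b, ha, hb, rfl⟩ | ⟨a, b, c, T, rfl⟩
    · exact Or.inl (Or.inl (Or.inr (hB.mem_of_comm S hF hM h fun x hx => (hB' x hx).symm)))
    · have hx := fun x hx => S.commute_both ha hb.1 (hB.sub hx) hb.2.2 hb.2.1.symm (hB' x hx)
      exact Or.inl (Or.inr ⟨a, b, hB.mem_of_comm S hF hM ha fun x hx' => (hx x hx').1.symm,
        hB.mem_of_comm S hF hM hb.1 fun x hx' => (hx x hx').2.symm, hb.2.1.symm, rfl⟩)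
    · have hx := fun x hx => commute_all S hF hM (hB.sub hx) T (hB' x hx)
      exact Or.inr ⟨a, b, c, hB.mem_of_comm S hF hM T.ha fun x hx' => (hx x hx').1.symm,
        hB.mem_of_comm S hF hM T.hb fun x hx' => (hx x hx').2.1.symm,
        hB.mem_of_comm S hF hM T.hc fun x hx' => (hx x hx').2.2.symm, T.ab, T.ac, T.bc, rfl⟩
  · rintro t (((rfl | ht) | ⟨a, b, ha, hb, -, rfl⟩) | ⟨a, b, c, ha, hb, hc, -, -, -, rfl⟩)
    · exact one_mem _
    · exact Subgroup.subset_closure ht
    · exact mul_mem (Subgroup.subset_closure ha) (Subgroup.subset_closure hb)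
    · exact mul_mem (mul_mem (Subgroup.subset_closure ha) (Subgroup.subset_closure hb))
        (Subgroup.subset_closure hc)

theorem IsBase.basePairs_ncard {B : Set G} (hB : IsBase D B) : (basePairs B).ncard = 231 := by
  have h := count_pairs (s := B) (t := basePairs B) (fun a w => ∃ b ∈ B, a ≠ b ∧ a * b = w) (m := 21) (n := 2)
    (fun a ha => ?_) (fun w hw => ?_)
  · rw [hB.card] at h
    omega
  · have h21 : (B \ {a}).ncard = 21 := by rw [Set.ncard_sdiff_singleton_of_mem ha, hB.card]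
    rw [← h21, ← Set.ncard_image_of_injective (B \ {a}) (mul_right_injective a)]
    congr 1
    ext w
    constructor
    · rintro ⟨-, b, hb, hne, rfl⟩
      exact ⟨b, ⟨hb, fun e => hne (Set.mem_singleton_iff.1 e).symm⟩, rfl⟩
    · rintro ⟨b, ⟨hb, hne⟩, rfl⟩
      have hne' : a ≠ b := fun e => hne (Set.mem_singleton_iff.2 e.symm)
      exact ⟨⟨a, b, ha, hb, hne', rfl⟩, b, hb, hne', rfl⟩
  · obtain ⟨a, b, ha, hb, hab, rfl⟩ := hw
    rw [show {x | x ∈ B ∧ ∃ y ∈ B, x ≠ y ∧ x * y = a * b} = {a, b} from ?_, Set.ncard_pair hab]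
    ext x
    constructor
    · rintro ⟨hx, y, hy, hxy, he⟩
      rcases pair_unique S hF hM (hB.sub hx) (hB.sub hy) (hB.sub ha) (hB.sub hb) hxy hab (hB.comm x hx y hy)
        (hB.comm a ha b hb) he with ⟨h, -⟩ | ⟨h, -⟩
      exacts [Or.inl h, Or.inr h]
    · rintro (rfl | rfl)
      exacts [⟨ha, b, hb, hab, rfl⟩, ⟨hb, a, ha, hab.symm, (hB.comm a ha x hb).symm.eq⟩]

theorem IsBase.baseTris_ncard {B : Set G} (hB : IsBase D B) : (baseTris B).ncard = 770 := by
  classical
  have h := count_pairs (s := B) (t := baseTris B)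
    (fun a w => ∃ b c, b ∈ B ∧ c ∈ B ∧ a ≠ b ∧ a ≠ c ∧ b ≠ c ∧ a * b * c = w) (m := 210) (n := 6)
    (fun a ha => ?_) (fun w hw => ?_)
  · rw [hB.card] at h
    omega
  · -- the products completing `a`
    set P : Set G := {w | ∃ b c, b ∈ B ∧ c ∈ B ∧ a ≠ b ∧ a ≠ c ∧ b ≠ c ∧ b * c = w} with hP
    have hPn : P.ncard = 210 := by
      have h := count_pairs (s := B \ {a}) (t := P)
        (fun b w => ∃ c ∈ B \ {a}, b ≠ c ∧ b * c = w) (m := 20) (n := 2) (fun b hb => ?_) (fun w hw => ?_)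
      · rw [Set.ncard_sdiff_singleton_of_mem ha, hB.card] at h
        omega
      · have h20 : ((B \ {a}) \ {b}).ncard = 20 := by
          rw [Set.ncard_sdiff_singleton_of_mem hb, Set.ncard_sdiff_singleton_of_mem ha, hB.card]
        rw [← h20, ← Set.ncard_image_of_injective ((B \ {a}) \ {b}) (mul_right_injective b)]
        congr 1
        ext w
        constructor
        · rintro ⟨-, c, hc, hne, rfl⟩
          exact ⟨c, ⟨hc, fun e => hne (Set.mem_singleton_iff.1 e).symm⟩, rfl⟩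
        · rintro ⟨c, ⟨hc, hne⟩, rfl⟩
          have hne' : b ≠ c := fun e => hne (Set.mem_singleton_iff.2 e.symm)
          exact ⟨⟨b, c, hb.1, hc.1, Ne.symm hb.2, Ne.symm hc.2, hne', rfl⟩, c, hc, hne', rfl⟩
      · obtain ⟨b, c, hb, hc, hab, hac, hbc, rfl⟩ := hw
        rw [show {x | x ∈ B \ {a} ∧ ∃ y ∈ B \ {a}, x ≠ y ∧ x * y = b * c} = {b, c} from ?_, Set.ncard_pair hbc]
        ext x
        constructor
        · rintro ⟨hx, y, hy, hxy, he⟩
          rcases pair_unique S hF hM (hB.sub hx.1) (hB.sub hy.1) (hB.sub hb) (hB.sub hc) hxy hbc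
            (hB.comm x hx.1 y hy.1) (hB.comm b hb c hc) he with ⟨h, -⟩ | ⟨h, -⟩
          exacts [Or.inl h, Or.inr h]
        · rintro (rfl | rfl)
          exacts [⟨⟨hb, hab.symm⟩, c, ⟨hc, hac.symm⟩, hbc, rfl⟩,
            ⟨⟨hc, hac.symm⟩, b, ⟨hb, hab.symm⟩, hbc.symm, (hB.comm b hb x hc).symm.eq⟩]
    rw [← hPn, ← Set.ncard_image_of_injective P (mul_right_injective a)]
    congr 1
    ext w
    constructor
    · rintro ⟨-, b, c, hb, hc, hab, hac, hbc, rfl⟩
      exact ⟨b * c, ⟨b, c, hb, hc, hab, hac, hbc, rfl⟩, (mul_assoc a b c).symm⟩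
    · rintro ⟨-, ⟨b, c, hb, hc, hab, hac, hbc, rfl⟩, rfl⟩
      exact ⟨⟨a, b, c, ha, hb, hc, hab, hac, hbc, mul_assoc a b c⟩, b, c, hb, hc, hab, hac, hbc, mul_assoc a b c⟩
  · obtain ⟨a, b, c, ha, hb, hc, hab, hac, hbc, rfl⟩ := hw
    have T := hB.tri S ha hb hc hab hac hbc
    obtain ⟨p, q, r, T', hp, hne, hall⟩ := exists_partner_triple S hF hM T
    have hpB : ∀ x ∈ [p, q, r], x ∈ B := by
      intro x hx
      have hxD : x ∈ D := by
        simp only [List.mem_cons, List.not_mem_nil, or_false] at hx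
        rcases hx with rfl | rfl | rfl
        exacts [T'.ha, T'.hb, T'.hc]
      refine hB.mem_of_comm S hF hM hxD fun y hy => ?_
      obtain ⟨c1, c2, c3⟩ := commute_all S hF hM (hB.sub hy) T' (hp.symm ▸
        ((hB.comm y hy a ha).mul_right (hB.comm y hy b hb)).mul_right (hB.comm y hy c hc))
      simp only [List.mem_cons, List.not_mem_nil, or_false] at hx
      rcases hx with rfl | rfl | rfl
      exacts [c1.symm, c2.symm, c3.symm]
    have e3 : ∀ x, x ∈ [a, b, c] ∨ x ∈ [p, q, r] ↔ x ∈ [a, b, c, p, q, r] := fun x => by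
      simp [or_assoc]
    have hset : {x | x ∈ B ∧ ∃ y z, y ∈ B ∧ z ∈ B ∧ x ≠ y ∧ x ≠ z ∧ y ≠ z ∧ x * y * z = a * b * c} =
        (↑([a, b, c, p, q, r].toFinset) : Set G) := by
      ext x
      rw [List.coe_toFinset, Set.mem_setOf_eq, Set.mem_setOf_eq, ← e3]
      constructor
      · rintro ⟨hx, y, z, hy, hz, h1, h2, h3, he⟩
        exact (hall x y z (hB.tri S hx hy hz h1 h2 h3) he).imp
          (fun h => (h x).1 List.mem_cons_self) fun h => (h x).1 List.mem_cons_self
      · have hpq : p ∈ B ∧ q ∈ B ∧ r ∈ B := ⟨hpB p (by simp), hpB q (by simp), hpB r (by simp)⟩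
        simp only [List.mem_cons, List.not_mem_nil, or_false]
        rintro ((rfl | rfl | rfl) | (rfl | rfl | rfl))
        · exact ⟨ha, _, _, hb, hc, T.ab, T.ac, T.bc, rfl⟩
        · exact ⟨hb, _, _, hc, ha, T.rot.ab, T.rot.ac, T.rot.bc, T.prod_rot⟩
        · exact ⟨hc, _, _, ha, hb, T.rot.rot.ab, T.rot.rot.ac, T.rot.rot.bc, T.rot.prod_rot.trans T.prod_rot⟩
        · exact ⟨hpq.1, _, _, hpq.2.1, hpq.2.2, T'.ab, T'.ac, T'.bc, hp⟩
        · exact ⟨hpq.2.1, _, _, hpq.2.2, hpq.1, T'.rot.ab, T'.rot.ac, T'.rot.bc, T'.prod_rot.trans hp⟩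
        · exact ⟨hpq.2.2, _, _, hpq.1, hpq.2.1, T'.rot.rot.ab, T'.rot.rot.ac, T'.rot.rot.bc,
            (T'.rot.prod_rot.trans T'.prod_rot).trans hp⟩
    have dis : ∀ x ∈ [a, b, c], x ∉ [p, q, r] := by
      intro x hx hx'
      apply hne
      have rotS : ∀ {d e f a b c : G}, SameTri e f d a b c → SameTri d e f a b c := by
        intro d e f a b c h x
        rw [← h x]; simp only [List.mem_cons, List.not_mem_nil, or_false]; tauto
      have rotS' : ∀ {d e f a b c : G}, SameTri d e f b c a → SameTri d e f a b c := by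
        intro d e f a b c h x
        rw [h x]; simp only [List.mem_cons, List.not_mem_nil, or_false]; tauto
      have first : ∀ {d g h : G}, Tri D d g h → d * g * h = p * q * r → d ∈ [p, q, r] →
          SameTri d g h p q r := by
        intro d g h T₀ hp₀ hd
        simp only [List.mem_cons, List.not_mem_nil, or_false] at hd
        rcases hd with hd | hd | hd
        · exact share S hF hM T₀ T' hd hp₀
        · exact rotS' (share S hF hM T₀ T'.rot hd (hp₀.trans T'.prod_rot.symm))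
        · exact rotS' (rotS' (share S hF hM T₀ T'.rot.rot hd (hp₀.trans (T'.rot.prod_rot.trans T'.prod_rot).symm)))
      simp only [List.mem_cons, List.not_mem_nil, or_false] at hx
      rcases hx with rfl | rfl | rfl
      · exact first T hp.symm hx'
      · exact rotS (first T.rot (T.prod_rot.trans hp.symm) hx')
      · exact rotS (rotS (first T.rot.rot ((T.rot.prod_rot.trans T.prod_rot).trans hp.symm) hx'))
    rw [hset, Set.ncard_coe_finset, List.toFinset_card_of_nodup]
    · rfl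
    · simp only [List.mem_cons, List.not_mem_nil, or_false, forall_eq_or_imp, forall_eq, not_or] at dis
      simp only [List.nodup_cons, List.mem_cons, List.not_mem_nil, or_false, not_or, List.nodup_nil,
        not_false_eq_true, and_true]
      obtain ⟨⟨a1, a2, a3⟩, ⟨b1, b2, b3⟩, c1, c2, c3⟩ := dis
      exact ⟨⟨T.ab, T.ac, a1, a2, a3⟩, ⟨T.bc, b1, b2, b3⟩, ⟨c1, c2, c3⟩, ⟨T'.ab, T'.ac⟩, T'.bc⟩

/-- The group of a base has order `2¹⁰`. -/
theorem IsBase.closure_card {B : Set G} (hB : IsBase D B) : Nat.card (Subgroup.closure B) = 2 ^ 10 := by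
  rw [← SetLike.coe_sort_coe, Nat.card_coe_set_eq, hB.closure_eq S hF hM,
    Set.ncard_union_eq ?_, Set.ncard_union_eq ?_, Set.ncard_union_eq ?_, Set.ncard_singleton, hB.card,
    hB.basePairs_ncard S hF hM, hB.baseTris_ncard S hF hM]
  · norm_num
  · refine Set.disjoint_left.2 fun x hx hx' => ?_
    exact S.tt.ne_one x (hB.sub hx') hx
  · refine Set.disjoint_left.2 fun x hx hx' => ?_
    obtain ⟨a, b, ha, hb, hne, rfl⟩ := hx'
    obtain ⟨h1, h2⟩ := pair_notMem S hF hM (hB.sub ha) ⟨hB.sub hb, hne.symm, hB.comm a ha b hb⟩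
    exact hx.elim h1 fun h => h2 (hB.sub h)
  · refine Set.disjoint_left.2 fun x hx hx' => ?_
    obtain ⟨a, b, c, ha, hb, hc, h1, h2, h3, rfl⟩ := hx'
    have T := hB.tri S ha hb hc h1 h2 h3
    rcases hx with (h | h) | ⟨p, q, hp, hq, hpq, he⟩
    · exact (tri_notMem S hF hM T).1 h
    · exact (tri_notMem S hF hM T).2 (hB.sub h)
    · exact pair_ne_tri S hF hM (hB.sub hp) ⟨hB.sub hq, hpq.symm, hB.comm p hp q hq⟩ T he

end CfsgLib.M22
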