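import Cfsg.Agent.Lib.ThreeTransp.CoverSign.M22Pref
import Cfsg.Agent.Lib.ThreeTransp.CoverSign.M22BaseGroup
import Cfsg.Agent.Lib.ThreeTransp.CoverSign.Fusion

/-!
# The largest elementary abelian subgroups of a double cover of a group of type `M(22)`

They are the preimages of the groups of the bases, and a 2-subgroup contains at most one.
-/

set_option autoImplicit false

namespace CfsgLib.M22

open CfsgLib.ThreeTransp CfsgLib.SporMisc CfsgLib.ElemFusion

variable {G : Type*} [Group G] {D : Set G}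
variable [Finite G] (S : Setup D) {F : Type} [Field F] [Fintype F] (hF : Fintype.card F = 2 ^ 2)
  (hM : ∀ a ∈ D, Nonempty (Model D a F))
variable {H : Type*} [Group H] [Finite H] {π : H →* G} {z : H} (hsurj : Function.Surjective π)
  (hker : ∀ h, π h = 1 → h = 1 ∨ h = z) (hπz : π z = 1) (hcz : ∀ h, Commute z h) (hzz : z * z = 1) (hz1 : z ≠ 1)
include S hF hM hsurj hker hπz hcz hzz hz1

omit S hF hM hsurj hcz hzz [Finite G] in
theorem card_ker_two : Nat.card π.ker = 2 := by
  rw [← SetLike.coe_sort_coe, Nat.card_coe_set_eq, show (π.ker : Set H) = {1, z} from ?_, Set.ncard_pair hz1.symm]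
  ext h
  constructor
  · intro hh
    rcases hker h hh with rfl | rfl
    exacts [Set.mem_insert _ _, Set.mem_insert_of_mem _ rfl]
  · rintro (rfl | rfl)
    exacts [map_one π, hπz]

omit S hF hM hcz hzz in
theorem card_comap_two (E : Subgroup G) : Nat.card (E.comap π) = 2 * Nat.card E := by
  have h1 := Subgroup.card_mul_index (E.comap π)
  rw [Subgroup.index_comap_of_surjective _ hsurj] at h1
  have h2 := Subgroup.card_mul_index π.ker
  rw [card_ker_two hker hπz hz1, Subgroup.index_ker, MonoidHom.range_eq_top.2 hsurj,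
    Subgroup.card_top, ← Subgroup.card_mul_index E] at h2
  have hi : 0 < E.index := Nat.pos_of_ne_zero (Subgroup.index_ne_zero_of_finite)
  refine Nat.eq_of_mul_eq_mul_right hi ?_
  rw [h1, ← h2, mul_assoc]

/-- The preimage of the group of a base is elementary abelian of order `2¹¹`. -/
theorem isElem_preimage {B : Set G} (hB : IsBase D B) : IsElem (2 ^ 11) ((Subgroup.closure B).comap π) := by
  obtain ⟨hc, h2⟩ := S.closure_elem hB.sub hB.comm
  obtain ⟨b₀, hb₀⟩ : B.Nonempty := Set.nonempty_of_ncard_ne_zero (by rw [hB.card]; norm_num)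
  obtain ⟨T₀, hT₀⟩ := hsurj b₀
  refine ⟨fun x hx y hy => ?_, fun x hx =>
    sq_eq_one_of_image S hF hM hsurj hker hπz hcz hzz (T₀ := T₀) (hT₀ ▸ hB.sub hb₀) (h2 _ hx), ?_⟩
  · have hle : Subgroup.closure B ≤ (Subgroup.centralizer ({x} : Set H)).map π := by
      rw [Subgroup.closure_le]
      intro b hb
      obtain ⟨T, hT⟩ := hsurj b
      exact ⟨T, Subgroup.mem_centralizer_singleton_iff.2 (commute_lift_of_cent S hF hM hsurj hker hπz hcz hzz
        (hB.sub hb) hT (hc _ hx b (Subgroup.subset_closure hb))).eq, hT⟩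
    obtain ⟨c, hcc, he⟩ := hle hy
    have hxc : Commute x c := (Subgroup.mem_centralizer_singleton_iff.1 hcc).symm
    rcases lift_eq_or hker hπz hcz he with rfl | rfl
    exacts [hxc, hxc.mul_right (hcz x).symm]
  · rw [card_comap_two hsurj hker hπz hz1, hB.closure_card S hF hM]
    norm_num

omit hz1 in
theorem image_card_le {A : Subgroup H} : Nat.card A ≤ 2 * Nat.card (A.map π) := by
  have h := Subgroup.card_mul_index (π.comp A.subtype).ker
  rw [Subgroup.index_ker, MonoidHom.range_comp, Subgroup.range_subtype] at h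
  rw [← h]
  refine Nat.mul_le_mul_right _ ?_
  rw [← SetLike.coe_sort_coe, Nat.card_coe_set_eq]
  calc ((π.comp A.subtype).ker : Set A).ncard = (A.subtype '' (π.comp A.subtype).ker).ncard :=
        (Set.ncard_image_of_injective _ A.subtype_injective).symm
    _ ≤ ({1, z} : Set H).ncard := Set.ncard_le_ncard (by
        rintro _ ⟨a, ha, rfl⟩
        rcases hker _ ha with h | h
        exacts [Or.inl h, Or.inr h]) (Set.toFinite _)
    _ ≤ 2 := (Set.ncard_insert_le _ _).trans (by rw [Set.ncard_singleton])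

/-- A 2-subgroup of the cover contains at most one elementary abelian subgroup of order `2¹¹`, and that one is
the preimage of the group of the base of a Sylow subgroup above the image. -/
theorem eq_preimage {T : Sylow 2 G} {B : Set G} (hB : IsBase D B) (hBT : B ⊆ ((T : Subgroup G) : Set G))
    (hnorm : ∀ t ∈ (T : Subgroup G), ∀ b ∈ B, t * b * t⁻¹ ∈ B) {A : Subgroup H} (hA : IsElem (2 ^ 11) A)
    (hAT : A.map π ≤ T) : A = (Subgroup.closure B).comap π := by
  have hcard : Nat.card (Subgroup.closure B) ≤ Nat.card (A.map π) := by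
    have := image_card_le S hF hM hsurj hker hπz hcz hzz (A := A)
    rw [hA.card] at this
    rw [hB.closure_card S hF hM]
    omega
  have he : A.map π = Subgroup.closure B := by
    by_contra hne
    refine absurd (elementary_card_lt S hF hM hB hBT hnorm hAT ?_ ?_ hne) (not_lt.2 hcard)
    · rintro _ ⟨x, hx, rfl⟩ _ ⟨y, hy, rfl⟩
      exact (hA.comm x hx y hy).map π
    · rintro _ ⟨x, hx, rfl⟩
      rw [← map_mul, hA.sq x hx, map_one]
  refine Subgroup.eq_of_le_of_card_ge (Subgroup.map_le_iff_le_comap.1 he.le) (le_of_eq ?_)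
  rw [hA.card, (isElem_preimage S hF hM hsurj hker hπz hcz hzz hz1 hB).card]

theorem uniq_top : Uniq (2 ^ 11) (⊤ : Subgroup H) := by
  intro Q hQ _ A A' hA hA' hAQ hA'Q
  haveI : Fact (Nat.Prime 2) := ⟨Nat.prime_two⟩
  obtain ⟨T, hT⟩ := (hQ.map π).exists_le_sylow
  obtain ⟨B, hB, hBT, hnorm⟩ := exists_base_in_sylow S hF hM T
  rw [eq_preimage S hF hM hsurj hker hπz hcz hzz hz1 hB hBT hnorm hA ((Subgroup.map_mono hAQ).trans hT),
    eq_preimage S hF hM hsurj hker hπz hcz hzz hz1 hB hBT hnorm hA' ((Subgroup.map_mono hA'Q).trans hT)]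

/-- The Thompson subgroup of a Sylow 2-subgroup of the cover. -/
theorem thompson_eq (P : Sylow 2 H) : ∃ B, IsBase D B ∧
    Cfsg.thompsonSubgroupOf 2 (P : Subgroup H) = (Subgroup.closure B).comap π := by
  haveI : Fact (Nat.Prime 2) := ⟨Nat.prime_two⟩
  let T : Sylow 2 G := P.mapSurjective hsurj
  have hT : (T : Subgroup G) = (P : Subgroup H).map π := rfl
  obtain ⟨B, hB, hBT, hnorm⟩ := exists_base_in_sylow S hF hM T
  refine ⟨B, hB, ?_⟩
  set E := (Subgroup.closure B).comap π with hE
  have hel := isElem_preimage S hF hM hsurj hker hπz hcz hzz hz1 hB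
  have hzP : z ∈ (P : Subgroup H) := by
    have hn : (Subgroup.zpowers z).Normal := ⟨fun n hn g => by
      obtain ⟨k, rfl⟩ := hn
      rw [show g * z ^ k * g⁻¹ = z ^ k by rw [← ((hcz g).zpow_left k).eq, mul_inv_cancel_right]]
      exact ⟨k, rfl⟩⟩
    have hp : IsPGroup 2 (Subgroup.zpowers z) := IsPGroup.of_card (n := 1) (by
      rw [Nat.card_zpowers, pow_one]; exact orderOf_eq_prime (by rw [pow_two, hzz]) hz1)
    exact P.is_maximal' (hp.to_sup_of_normal_left P.isPGroup') le_sup_right ▸
      Subgroup.mem_sup_left (Subgroup.mem_zpowers z)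
  have hEP : E ≤ (P : Subgroup H) := by
    intro h hh
    have : π h ∈ (T : Subgroup G) := (Subgroup.closure_le _).2 hBT hh
    rw [hT] at this
    obtain ⟨p, hp, he⟩ := this
    rcases lift_eq_or hker hπz hcz he with rfl | rfl
    exacts [hp, mul_mem hp hzP]
  have hiff : ∀ A : Subgroup (P : Subgroup H), Cfsg.IsElementaryAbelian 2 A → 2 ^ 11 ≤ Nat.card A →
      A = E.subgroupOf P := by
    rintro A ⟨hc, h2⟩ hcard
    have hcA : Nat.card (A.map (P : Subgroup H).subtype) = Nat.card A :=
      (Nat.card_congr (A.equivMapOfInjective _ (Subgroup.subtype_injective _)).toEquiv).symm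
    have hAc : ∀ x ∈ A.map (P : Subgroup H).subtype, ∀ y ∈ A.map (P : Subgroup H).subtype, Commute x y := by
      rintro _ ⟨x, hx, rfl⟩ _ ⟨y, hy, rfl⟩
      exact congrArg (fun w : ↥A => ((w : ↥(P : Subgroup H)) : H)) (hc.is_comm.comm ⟨x, hx⟩ ⟨y, hy⟩)
    have hA2 : ∀ x ∈ A.map (P : Subgroup H).subtype, x * x = 1 := by
      rintro _ ⟨x, hx, rfl⟩
      rw [← map_mul, ← pow_two, h2 x hx, map_one]
    have hT' : (A.map (P : Subgroup H).subtype).map π ≤ T := by
      rw [hT]; exact Subgroup.map_mono (Subgroup.map_subtype_le _)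
    have hle : Nat.card (A.map (P : Subgroup H).subtype) = 2 ^ 11 := by
      refine le_antisymm ?_ (hcA ▸ hcard)
      have h1 := image_card_le S hF hM hsurj hker hπz hcz hzz (A := A.map (P : Subgroup H).subtype)
      have h2 : Nat.card ((A.map (P : Subgroup H).subtype).map π) ≤ 2 ^ 10 := by
        rw [← hB.closure_card S hF hM]
        by_cases he : (A.map (P : Subgroup H).subtype).map π = Subgroup.closure B
        · rw [he]
        · refine (elementary_card_lt S hF hM hB hBT hnorm hT' ?_ ?_ he).le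
          · rintro _ ⟨x, hx, rfl⟩ _ ⟨y, hy, rfl⟩
            exact (hAc x hx y hy).map π
          · rintro _ ⟨x, hx, rfl⟩
            rw [← map_mul, hA2 x hx, map_one]
      omega
    refine Subgroup.map_injective (Subgroup.subtype_injective _) ?_
    rw [Subgroup.map_subgroupOf_eq_of_le hEP]
    exact eq_preimage S hF hM hsurj hker hπz hcz hzz hz1 hB hBT hnorm ⟨hAc, hA2, hle⟩ hT'
  have hEt : Cfsg.IsElementaryAbelian 2 (E.subgroupOf P) :=
    ⟨⟨⟨fun x y => Subtype.ext (Subtype.ext (hel.comm _ x.2 _ y.2).eq)⟩⟩, fun x hx => Subtype.ext (by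
      rw [SubgroupClass.coe_pow, pow_two]; exact hel.sq _ hx)⟩
  have hEcard : Nat.card (E.subgroupOf P) = 2 ^ 11 := by
    rw [Nat.card_congr (Subgroup.subgroupOfEquivOfLe hEP).toEquiv, hel.card]
  have hmax : Cfsg.maxElementaryAbelianSubgroups 2 ↥(P : Subgroup H) = {E.subgroupOf P} := by
    ext A
    constructor
    · rintro ⟨hA, hmax⟩
      exact hiff A hA (hEcard ▸ hmax _ hEt)
    · rintro rfl
      refine ⟨hEt, fun A hA => ?_⟩
      by_contra hlt
      push Not at hlt
      rw [hiff A hA (by omega)] at hlt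
      exact lt_irrefl _ hlt
  rw [Cfsg.thompsonSubgroupOf, Cfsg.thompsonSubgroup, hmax, sSup_singleton,
    Subgroup.map_subgroupOf_eq_of_le hEP]

end CfsgLib.M22
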