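import Cfsg.Agent.Lib.ThreeTransp.CoverSign.M22Squares
import Cfsg.Agent.Lib.ThreeTransp.CoverSign.M22CoverElem

/-!
# The conjugates of a central involution in the Thompson subgroup of its centraliser

`C(d)` is a perfect double cover of a group of type `M(22)` and some other conjugate of `d` commutes with `d`.
The conjugates of `d` in the Thompson subgroup `A` are fused in its normaliser, so their number can only have
primes of `|GL₁₁(2)|`; as `d` is not a square, none lies over a product of two members, and `23` remains.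
-/

set_option autoImplicit false

namespace CfsgLib.M22

open CfsgLib.ThreeTransp CfsgLib.SporMisc CfsgLib.ElemFusion

variable {G : Type*} [Group G] [Finite G] {d : G}
variable {Q : Type*} [Group Q] [Finite Q] {D : Set Q}

/-- The number of conjugates of `d` over an element of the quotient. -/
noncomputable def fibre (d : G) (π : ↥(Subgroup.centralizer ({d} : Set G)) →* Q) (e : Q) : ℕ :=
  {h : ↥(Subgroup.centralizer ({d} : Set G)) | π h = e ∧ IsConj d (h : G)}.ncard

theorem fibre_conj (π : ↥(Subgroup.centralizer ({d} : Set G)) →* Q) (hsurj : Function.Surjective π)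
    (g e : Q) : fibre d π (g * e * g⁻¹) = fibre d π e := by
  obtain ⟨k, rfl⟩ := hsurj g
  symm
  refine Set.ncard_congr (fun h _ => k * h * k⁻¹) (fun h hh => ⟨by rw [map_mul, map_mul, map_inv, hh.1], ?_⟩)
    (fun _ _ _ _ e => by simpa using e) fun h hh => ⟨k⁻¹ * h * k, ⟨by
      rw [map_mul, map_mul, map_inv, hh.1]; group, ?_⟩, by group⟩
  · exact hh.2.trans (isConj_iff.2 ⟨(k : G), by simp⟩)
  · exact hh.2.trans (isConj_iff.2 ⟨(k : G)⁻¹, by simp⟩)

theorem ncard_over (π : ↥(Subgroup.centralizer ({d} : Set G)) →* Q) (s : Set Q) {n : ℕ}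
    (hn : ∀ e ∈ s, fibre d π e = n) :
    {h : ↥(Subgroup.centralizer ({d} : Set G)) | π h ∈ s ∧ IsConj d (h : G)}.ncard = n * s.ncard := by
  classical
  have := Fintype.ofFinite (↥(Subgroup.centralizer ({d} : Set G)))
  have := Fintype.ofFinite Q
  rw [Set.ncard_eq_toFinset_card', Set.ncard_eq_toFinset_card',
    Finset.card_eq_sum_card_fiberwise (t := s.toFinset) (f := π) (fun x hx => by
      simp only [Finset.mem_coe, Set.mem_toFinset, Set.mem_setOf_eq] at hx ⊢; exact hx.1),
    Finset.sum_const_nat (m := n) (fun e he => ?_), mul_comm]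
  rw [← hn e (Set.mem_toFinset.1 he), fibre, Set.ncard_eq_toFinset_card']
  congr 1
  ext h
  simp only [Finset.mem_filter, Set.mem_toFinset, Set.mem_setOf_eq]
  constructor
  · rintro ⟨⟨-, h2⟩, h3⟩; exact ⟨h3, h2⟩
  · rintro ⟨h3, h2⟩; exact ⟨⟨h3 ▸ Set.mem_toFinset.1 he, h2⟩, h3⟩

variable (S : Setup D) {F : Type} [Field F] [Fintype F] (hF : Fintype.card F = 2 ^ 2)
  (hM : ∀ a ∈ D, Nonempty (Model D a F))
variable {π : ↥(Subgroup.centralizer ({d} : Set G)) →* Q}
include S hF hM

/-- The Thompson subgroup of a Sylow 2-subgroup of `C(d)` and the conjugates of `d` in it. -/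
theorem cover_thompson_full (hd : orderOf d = 2) (hsurj : Function.Surjective π)
    (hπ : ∀ h, π h = 1 ↔ (h : G) ∈ Subgroup.zpowers d)
    (hperf : commutator ↥(Subgroup.centralizer ({d} : Set G)) = ⊤) (hsq : ¬ ∃ g : G, g ^ 2 = d)
    (hnwc : ∃ g : G, g * d * g⁻¹ ∈ Subgroup.centralizer ({d} : Set G) ∧ g * d * g⁻¹ ≠ d)
    (P : Sylow 2 ↥(Subgroup.centralizer ({d} : Set G))) (A : Subgroup G)
    (hA : A = (Cfsg.thompsonSubgroupOf 2 (P : Subgroup ↥(Subgroup.centralizer ({d} : Set G)))).map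
      (Subgroup.centralizer ({d} : Set G)).subtype) :
    Cfsg.IsElementaryAbelian 2 A ∧ Nat.card A = 2 ^ 11 ∧ Set.ncard {x : G | x ∈ A ∧ IsConj d x} = 23 ∧
      (∀ x ∈ A, ∀ y ∈ A, IsConj d x → IsConj d y → ∃ n ∈ Subgroup.normalizer (A : Set G), n * x * n⁻¹ = y) ∧
      (∀ e ∈ D, fibre d π e = 1) ∧ (∀ {a b : Q}, a ∈ D → b ∈ link D a → fibre d π (a * b) = 0) ∧
      ∀ {a b c : Q}, Tri D a b c → fibre d π (a * b * c) = 0 := by
  classical
  have hdd : d * d = 1 := by rw [← pow_two, ← hd, pow_orderOf_eq_one]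
  have hdC : d ∈ (Subgroup.centralizer ({d} : Set G)) := Subgroup.mem_centralizer_singleton_iff.2 rfl
  set z : ↥(Subgroup.centralizer ({d} : Set G)) := ⟨d, hdC⟩ with hz
  have hd1 : d ≠ 1 := fun h => by rw [h, orderOf_one] at hd; norm_num at hd
  have hz1 : z ≠ 1 := fun h => hd1 (congrArg Subtype.val h)
  have hπz : π z = 1 := (hπ z).2 (Subgroup.mem_zpowers d)
  have hcz : ∀ h : ↥(Subgroup.centralizer ({d} : Set G)), Commute z h := fun h =>
    Subtype.ext (Subgroup.mem_centralizer_singleton_iff.1 h.2).symm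
  have hzz : z * z = 1 := Subtype.ext hdd
  have hker : ∀ h : ↥(Subgroup.centralizer ({d} : Set G)), π h = 1 → h = 1 ∨ h = z := fun h hh => by
    obtain ⟨n, hn⟩ := (hπ h).1 hh
    change d ^ n = (h : G) at hn
    rw [← zpow_mod_orderOf, hd] at hn
    rcases Int.emod_two_eq_zero_or_one n with h0 | h0 <;> simp [h0] at hn
    · exact Or.inl (Subtype.ext hn.symm)
    · exact Or.inr (Subtype.ext hn.symm)
  obtain ⟨B, hB, hJ⟩ := thompson_eq S hF hM hsurj hker hπz hcz hzz hz1 P
  rw [hJ] at hA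
  have hel : IsElem (2 ^ 11) A := hA ▸
    (isElem_preimage S hF hM hsurj hker hπz hcz hzz hz1 hB).map (Subgroup.centralizer ({d} : Set G)).subtype_injective
  have hutop := uniq_top S hF hM hsurj hker hπz hcz hzz hz1
  have huC : Uniq (2 ^ 11) (Subgroup.centralizer ({d} : Set G)) := by
    intro R hR hRC A₁ A₂ h1 h2 h1R h2R
    have key := hutop (R.comap (Subgroup.centralizer ({d} : Set G)).subtype) (hR.comap_of_injective _ (Subgroup.centralizer ({d} : Set G)).subtype_injective) le_top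
      (A₁.comap (Subgroup.centralizer ({d} : Set G)).subtype) (A₂.comap (Subgroup.centralizer ({d} : Set G)).subtype) ?_ ?_ (Subgroup.comap_mono h1R) (Subgroup.comap_mono h2R)
    · rw [← Subgroup.map_comap_eq_self (f := (Subgroup.centralizer ({d} : Set G)).subtype) (H := A₁) (by rw [(Subgroup.centralizer ({d} : Set G)).range_subtype]; exact h1R.trans hRC),
        key, Subgroup.map_comap_eq_self (by rw [(Subgroup.centralizer ({d} : Set G)).range_subtype]; exact h2R.trans hRC)]
    all_goals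
      refine ⟨fun x hx y hy => Subtype.ext ?_, fun x hx => Subtype.ext ?_, ?_⟩
    · exact (h1.comm _ hx _ hy).eq
    · exact h1.sq _ hx
    · rw [← h1.card]; exact Nat.card_congr (Subgroup.subgroupOfEquivOfLe (h1R.trans hRC)).toEquiv
    · exact (h2.comm _ hx _ hy).eq
    · exact h2.sq _ hx
    · rw [← h2.card]; exact Nat.card_congr (Subgroup.subgroupOfEquivOfLe (h2R.trans hRC)).toEquiv
  have htrans : ∀ x ∈ A, ∀ y ∈ A, IsConj d x → IsConj d y →
      ∃ n ∈ Subgroup.normalizer (A : Set G), n * x * n⁻¹ = y := by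
    intro x hx y hy hdx hdy
    obtain ⟨g, hg⟩ := isConj_iff.1 (hdx.symm.trans hdy)
    refine exists_normalizer hel hx hy hg ?_
    obtain ⟨k, rfl⟩ := isConj_iff.1 hdy
    have : Subgroup.centralizer ({k * d * k⁻¹} : Set G) = (Subgroup.centralizer ({d} : Set G)).map (MulAut.conj k).toMonoidHom := by
      ext w
      rw [Subgroup.mem_map_equiv, Subgroup.mem_centralizer_singleton_iff, Subgroup.mem_centralizer_singleton_iff,
        MulAut.conj_symm_apply]
      constructor
      · intro h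
        calc k⁻¹ * w * k * d = k⁻¹ * (w * (k * d * k⁻¹)) * k := by group
          _ = d * (k⁻¹ * w * k) := by rw [h]; group
      · intro h
        calc w * (k * d * k⁻¹) = k * (k⁻¹ * w * k * d) * k⁻¹ := by group
          _ = k * d * k⁻¹ * w := by rw [h]; group
    rw [this]
    exact huC.conj k
  have hdA : d ∈ A := by
    rw [hA]
    exact ⟨z, show π z ∈ Subgroup.closure B by rw [hπz]; exact one_mem _, rfl⟩
  set X := {x : G | x ∈ A ∧ IsConj d x} with hX
  -- the conjugates by kind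
  obtain ⟨T₀, hT₀⟩ := hsurj S.exists_noncommuting.choose
  have hT₀D : π T₀ ∈ D := hT₀ ▸ S.exists_noncommuting.choose_spec.1
  have hfib2 : ∀ e, fibre d π e ≤ 2 := by
    intro e
    rcases Set.eq_empty_or_nonempty {h : ↥(Subgroup.centralizer ({d} : Set G)) | π h = e ∧ IsConj d (h : G)} with h0 | ⟨h₀, hh₀⟩
    · rw [fibre, h0, Set.ncard_empty]; norm_num
    · calc fibre d π e ≤ ({h₀, h₀ * z} : Set ↥(Subgroup.centralizer ({d} : Set G))).ncard := Set.ncard_le_ncard (fun h hh => by
            rcases lift_eq_or hker hπz hcz (hh₀.1.trans hh.1.symm) with e | e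
            exacts [Or.inl e, Or.inr e]) (Set.toFinite _)
        _ ≤ 2 := (Set.ncard_insert_le _ _).trans (by rw [Set.ncard_singleton])
  obtain ⟨b₀, hb₀⟩ : B.Nonempty := Set.nonempty_of_ncard_ne_zero (by rw [hB.card]; norm_num)
  obtain ⟨w₀, hw₀⟩ : (baseTris B).Nonempty :=
    Set.nonempty_of_ncard_ne_zero (by rw [hB.baseTris_ncard S hF hM]; norm_num)
  set n₁ := fibre d π b₀ with hn₁
  set n₃ := fibre d π w₀ with hn₃
  have f1 : ∀ e ∈ D, fibre d π e = n₁ := fun e he => by
    obtain ⟨g, rfl⟩ := S.cls (hB.sub hb₀) he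
    exact fibre_conj π hsurj g b₀
  have f3 : ∀ {a b c : Q}, Tri D a b c → fibre d π (a * b * c) = n₃ := by
    intro a b c T
    obtain ⟨a', b', c', ha', hb', hc', h1, h2, h3, he⟩ := hw₀
    obtain ⟨g, e1, e2, e3⟩ := tri_conj S hF hM (hB.tri S ha' hb' hc' h1 h2 h3) T
    rw [hn₃, ← he, ← fibre_conj π hsurj g (a' * b' * c'), ← e1, ← e2, ← e3]
    congr 1
    group
  have f2 : ∀ {a b : Q}, a ∈ D → b ∈ link D a → fibre d π (a * b) = 0 := by
    intro a b ha hb
    refine (Set.ncard_eq_zero (Set.toFinite _)).2 (Set.eq_empty_iff_forall_notMem.2 fun h hh => hsq ?_)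
    obtain ⟨k, hk⟩ := pair_lift_square S hF hM hsurj hker hπz hcz hzz hT₀D hz1 hperf ha hb hh.1
    obtain ⟨g, hg⟩ := isConj_iff.1 hh.2
    refine ⟨g⁻¹ * (k : G) * g, ?_⟩
    rw [pow_two, show g⁻¹ * (k : G) * g * (g⁻¹ * k * g) = g⁻¹ * ((k * k : ↥(Subgroup.centralizer ({d} : Set G))) : G) * g by
      rw [Subgroup.coe_mul]; group, hk, ← hg]
    group
  -- the partition of `X`
  set X₁ := {h : ↥(Subgroup.centralizer ({d} : Set G)) | π h ∈ B ∧ IsConj d (h : G)} with hX₁
  set X₃ := {h : ↥(Subgroup.centralizer ({d} : Set G)) | π h ∈ baseTris B ∧ IsConj d (h : G)} with hX₃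
  have hpart : X = (Subgroup.centralizer ({d} : Set G)).subtype '' ({z} ∪ X₁ ∪ X₃) := by
    ext x
    constructor
    · rintro ⟨hxA, hxd⟩
      rw [hA] at hxA
      obtain ⟨h, hh, rfl⟩ := hxA
      refine ⟨h, ?_, rfl⟩
      have hh' : π h ∈ (Subgroup.closure B : Set Q) := hh
      rw [hB.closure_eq S hF hM] at hh'
      rcases hh' with ((h' | h') | ⟨a, b, ha, hb, hne, h'⟩) | h'
      · rcases hker h h' with rfl | rfl
        · exact absurd (isConj_one_right.1 (hxd.symm : IsConj ((1 : ↥(Subgroup.centralizer ({d} : Set G))) : G) d)).symm hd1.symm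
        · exact Or.inl (Or.inl rfl)
      · exact Or.inl (Or.inr ⟨h', hxd⟩)
      · exfalso
        have := f2 (hB.sub ha) ⟨hB.sub hb, hne.symm, hB.comm a ha b hb⟩
        rw [fibre, Set.ncard_eq_zero (Set.toFinite _), Set.eq_empty_iff_forall_notMem] at this
        exact this h ⟨h'.symm, hxd⟩
      · exact Or.inr ⟨h', hxd⟩
    · rintro ⟨h, ((rfl | ⟨h', hh⟩) | ⟨h', hh⟩), rfl⟩
      · exact ⟨hdA, IsConj.refl d⟩
      all_goals
        refine ⟨hA ▸ ⟨h, show π h ∈ (Subgroup.closure B : Set Q) from ?_, rfl⟩, hh⟩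
        rw [hB.closure_eq S hF hM]
      · exact Or.inl (Or.inl (Or.inr h'))
      · exact Or.inr h'
  have hd13 : ∀ h : ↥(Subgroup.centralizer ({d} : Set G)), π h ∈ B → π h ∈ baseTris B → False := by
    rintro h h1 ⟨a, b, c, ha, hb, hc, n1, n2, n3, he⟩
    exact (tri_notMem S hF hM (hB.tri S ha hb hc n1 n2 n3)).2 (he ▸ hB.sub h1)
  have hcardX : X.ncard = 1 + 22 * n₁ + 770 * n₃ := by
    rw [hpart, Set.ncard_image_of_injective _ (Subgroup.centralizer ({d} : Set G)).subtype_injective, Set.ncard_union_eq ?_ (Set.toFinite _),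
      Set.ncard_union_eq ?_ (Set.toFinite _), Set.ncard_singleton, hX₁, hX₃,
      ncard_over π B (fun e he => f1 e (hB.sub he)),
      ncard_over π (baseTris B) (n := n₃) ?_, hB.card, hB.baseTris_ncard S hF hM]
    · ring
    · rintro _ ⟨a, b, c, ha, hb, hc, n1, n2, n3, rfl⟩
      exact f3 (hB.tri S ha hb hc n1 n2 n3)
    · refine Set.disjoint_left.2 ?_
      rintro h rfl ⟨h1, -⟩
      exact S.tt.ne_one _ (hB.sub h1) hπz
    · refine Set.disjoint_left.2 ?_
      rintro h (rfl | ⟨h1, -⟩) ⟨h3, -⟩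
      · obtain ⟨a, b, c, ha, hb, hc, n1, n2, n3, he⟩ := h3
        exact (tri_notMem S hF hM (hB.tri S ha hb hc n1 n2 n3)).1 (he.trans hπz)
      · exact hd13 h h1 h3
  -- some kind occurs
  have hpos : 0 < n₁ ∨ 0 < n₃ := by
    obtain ⟨g, hgC, hgd⟩ := hnwc
    set h : ↥(Subgroup.centralizer ({d} : Set G)) := ⟨g * d * g⁻¹, hgC⟩ with hh
    have hconj : IsConj d (h : G) := isConj_iff.2 ⟨g, rfl⟩
    have hne : π h ≠ 1 := fun e => by
      rcases hker h e with e | e
      · exact hd1 (by simpa [hh] using congrArg Subtype.val e)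
      · exact hgd (congrArg Subtype.val e)
    have h2 : π h * π h = 1 := by
      rw [← map_mul, show h * h = 1 from Subtype.ext (by
        show g * d * g⁻¹ * (g * d * g⁻¹) = 1
        rw [show g * d * g⁻¹ * (g * d * g⁻¹) = g * (d * d) * g⁻¹ by group, hdd, mul_one, mul_inv_cancel]),
        map_one]
    have hf : 0 < fibre d π (π h) := (Set.ncard_pos (Set.toFinite _)).2 ⟨h, rfl, hconj⟩
    rcases invol_cases S hF hM (orderOf_eq_prime (p := 2) (by rw [pow_two, h2]) hne) with
      he | ⟨a, b, ha, hb, he⟩ | ⟨a, b, c, T, he⟩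
    · exact Or.inl (f1 _ he ▸ hf)
    · rw [← he, f2 ha hb] at hf; exact absurd hf (lt_irrefl 0)
    · rw [← he, f3 T] at hf; exact Or.inr hf
  -- the orbit
  have horbit : {y | ∃ m ∈ Subgroup.normalizer (A : Set G), m * d * m⁻¹ = y} = X := by
    ext y
    constructor
    · rintro ⟨m, hm, rfl⟩
      exact ⟨(Subgroup.mem_normalizer_iff.1 hm d).1 hdA, isConj_iff.2 ⟨m, rfl⟩⟩
    · rintro ⟨hy, hdy⟩
      exact htrans d hdA y hy (IsConj.refl d) hdy
  have hprime : ∀ p : ℕ, p.Prime → p ∣ X.ncard → ∃ k < 11, p ∣ 2 ^ 11 - 2 ^ k := fun p hp hdvd =>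
    prime_dvd_orbit hel hdA hp (by rw [horbit]; exact hdvd)
  have bad : ∀ p : ℕ, p.Prime → (∀ k < 11, ¬ p ∣ 2 ^ 11 - 2 ^ k) → ¬ p ∣ X.ncard := fun p hp hk hdvd => by
    obtain ⟨k, hk', h⟩ := hprime p hp hdvd
    exact hk k hk' h
  suffices h : X.ncard = 23 ∧ n₁ = 1 ∧ n₃ = 0 from
    ⟨⟨⟨⟨fun x y => Subtype.ext (hel.comm _ x.2 _ y.2).eq⟩⟩, fun x hx => by rw [pow_two]; exact hel.sq x hx⟩,
      hel.card, h.1, htrans, fun e he => (f1 e he).trans h.2.1, fun ha hb => f2 ha hb,
      fun T => (f3 T).trans h.2.2⟩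
  have b1 : n₁ ≤ 2 := hfib2 _
  have b3 : n₃ ≤ 2 := hfib2 _
  interval_cases hcase1 : n₁ <;> interval_cases hcase3 : n₃ <;>
    simp only [Nat.reduceMul, Nat.reduceAdd, mul_zero, add_zero] at hcardX
  · rcases hpos with h | h <;> omega
  · exact absurd (hcardX ▸ (by norm_num : 257 ∣ 771)) (bad 257 (by norm_num) (by decide))
  · exact absurd (hcardX ▸ (by norm_num : 67 ∣ 1541)) (bad 67 (by norm_num) (by decide))
  · exact ⟨hcardX, rfl, rfl⟩
  · exact absurd (hcardX ▸ (by norm_num : 13 ∣ 793)) (bad 13 (by norm_num) (by decide))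
  · exact absurd (hcardX ▸ (by norm_num : 521 ∣ 1563)) (bad 521 (by norm_num) (by decide))
  · -- both lifts of a member and its neighbour would be conjugates
    exfalso
    have both : ∀ {b : Q}, b ∈ B → ∀ {h : ↥(Subgroup.centralizer ({d} : Set G))}, π h = b → IsConj d (h : G) := by
      intro b hb h hh
      by_contra hn
      have h2 : fibre d π b ≤ 1 := by
        calc fibre d π b ≤ ({h * z} : Set ↥(Subgroup.centralizer ({d} : Set G))).ncard := Set.ncard_le_ncard (fun k hk => by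
              rcases lift_eq_or hker hπz hcz (hh.trans hk.1.symm) with e | e
              · exact absurd (e ▸ hk.2) hn
              · exact e) (Set.toFinite _)
          _ = 1 := Set.ncard_singleton _
      rw [f1 b (hB.sub hb)] at h2
      omega
    obtain ⟨b₁, hb₁, hne⟩ : ∃ b₁ ∈ B, b₁ ≠ b₀ := by
      by_contra hcon
      push Not at hcon
      have := Set.ncard_le_ncard (show B ⊆ {b₀} from fun x hx => hcon x hx) (Set.toFinite _)
      rw [hB.card, Set.ncard_singleton] at this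
      omega
    obtain ⟨T, hT⟩ := hsurj b₀
    obtain ⟨U, hU⟩ := hsurj b₁
    have hUz : π (U * z) = b₁ := by rw [map_mul, hπz, mul_one, hU]
    have memA : ∀ {h : ↥(Subgroup.centralizer ({d} : Set G))}, π h ∈ B → (h : G) ∈ A := fun {h} hh =>
      hA ▸ ⟨h, Subgroup.subset_closure hh, rfl⟩
    obtain ⟨m, hm, hmd⟩ := htrans d hdA (T : G) (memA (hT ▸ hb₀)) (IsConj.refl d) (both hb₀ hT)
    have moved : ∀ {h : ↥(Subgroup.centralizer ({d} : Set G))}, π h = b₁ → ∃ u : ↥(Subgroup.centralizer ({d} : Set G)), π u ∈ B ∧ (u : G) = m⁻¹ * h * m := by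
      intro h hh
      have hxA : m⁻¹ * (h : G) * m ∈ A := by
        simpa using (Subgroup.mem_normalizer_iff.1 (inv_mem hm) (h : G)).1 (memA (hh ▸ hb₁))
      have hx : m⁻¹ * (h : G) * m ∈ X := ⟨hxA, (both hb₁ hh).trans (isConj_iff.2 ⟨m⁻¹, by simp⟩)⟩
      rw [hpart] at hx
      obtain ⟨u, (hu | hu) | hu, hue⟩ := hx
      · exfalso
        apply hne
        have h' : (h : G) = (T : G) := by
          rw [← hmd]
          rw [Set.mem_singleton_iff.1 hu] at hue
          calc (h : G) = m * (m⁻¹ * h * m) * m⁻¹ := by group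
            _ = m * d * m⁻¹ := by rw [← hue]; rfl
        rw [← hh, ← hT, Subtype.ext h']
      · exact ⟨u, hu.1, hue⟩
      · exfalso
        have := (Set.ncard_eq_zero (Set.toFinite X₃)).1 (by
          rw [hX₃, ncard_over π (baseTris B) (n := 0) (fun e he => by
            obtain ⟨a, b, c, ha, hb, hc, n1, n2, n3, rfl⟩ := he
            exact f3 (hB.tri S ha hb hc n1 n2 n3)), zero_mul])
        exact (Set.eq_empty_iff_forall_notMem.1 this) u hu
    obtain ⟨u, hu, hue⟩ := moved hU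
    obtain ⟨w, hw, hwe⟩ := moved hUz
    -- their product is the image of `d`
    have hvA : m⁻¹ * d * m ∈ X := ⟨by
        simpa using (Subgroup.mem_normalizer_iff.1 (inv_mem hm) d).1 hdA, isConj_iff.2 ⟨m⁻¹, by simp⟩⟩
    rw [hpart] at hvA
    obtain ⟨v, hv, hve⟩ := hvA
    have hU2 : (U : G) * (U * z : ↥(Subgroup.centralizer ({d} : Set G))) = d := by
      have : U * (U * z) = z := by
        rw [← mul_assoc, sq_eq_one_of_image S hF hM hsurj hker hπz hcz hzz hT₀D (h := U) (by
          rw [hU, S.sqd (hB.sub hb₁)]), one_mul]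
      exact congrArg Subtype.val this
    have huwv : u * w = v := Subtype.ext (by
      show (u : G) * w = v
      rw [hue, hwe]
      calc m⁻¹ * (U : G) * m * (m⁻¹ * ((U * z : ↥(Subgroup.centralizer ({d} : Set G))) : G) * m) = m⁻¹ * ((U : G) * ((U * z : ↥(Subgroup.centralizer ({d} : Set G))) : G)) * m := by group
        _ = (v : G) := (congrArg (fun x => m⁻¹ * x * m) hU2).trans hve.symm)
    rcases hv with (hv | hv) | hv
    · apply hne
      rw [Set.mem_singleton_iff.1 hv] at hve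
      have hTd : (T : G) = d := by
        rw [← hmd]
        calc m * d * m⁻¹ = m * (m⁻¹ * d * m) * m⁻¹ := by rw [← hve]; rfl
          _ = d := by group
      exact absurd (show π T = 1 by rw [show T = z from Subtype.ext hTd, hπz]) (hT ▸ S.tt.ne_one _ (hB.sub hb₀))
    · by_cases he : π u = π w
      · have : π v = 1 := by rw [← huwv, map_mul, ← he, S.sqd (hB.sub hu)]
        exact S.tt.ne_one _ (hB.sub hv.1) this
      · apply (pair_notMem S hF hM (hB.sub hu) ⟨hB.sub hw, Ne.symm he, hB.comm _ hu _ hw⟩).2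
        rw [← map_mul, huwv]
        exact hB.sub hv.1
    · by_cases he : π u = π w
      · have h1 : π v = 1 := by rw [← huwv, map_mul, ← he, S.sqd (hB.sub hu)]
        obtain ⟨a, b, c, ha, hb, hc, n1, n2, n3, he'⟩ := hv.1
        exact (tri_notMem S hF hM (hB.tri S ha hb hc n1 n2 n3)).1 (he'.trans h1)
      · obtain ⟨a, b, c, ha, hb, hc, n1, n2, n3, he'⟩ := hv.1
        exact pair_ne_tri S hF hM (hB.sub hu) ⟨hB.sub hw, Ne.symm he, hB.comm _ hu _ hw⟩
          (hB.tri S ha hb hc n1 n2 n3) (by rw [← map_mul, huwv, he'])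
  · exact absurd (hcardX ▸ (by norm_num : 163 ∣ 815)) (bad 163 (by norm_num) (by decide))
  · exact absurd (hcardX ▸ (by norm_num : 317 ∣ 1585)) (bad 317 (by norm_num) (by decide))

/-- The Thompson subgroup of a Sylow 2-subgroup of `C(d)` and the conjugates of `d` in it. -/
theorem cover_thompson_statement (hd : orderOf d = 2) (hsurj : Function.Surjective π)
    (hπ : ∀ h, π h = 1 ↔ (h : G) ∈ Subgroup.zpowers d)
    (hperf : commutator ↥(Subgroup.centralizer ({d} : Set G)) = ⊤) (hsq : ¬ ∃ g : G, g ^ 2 = d)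
    (hnwc : ∃ g : G, g * d * g⁻¹ ∈ Subgroup.centralizer ({d} : Set G) ∧ g * d * g⁻¹ ≠ d)
    (P : Sylow 2 ↥(Subgroup.centralizer ({d} : Set G))) (A : Subgroup G)
    (hA : A = (Cfsg.thompsonSubgroupOf 2 (P : Subgroup ↥(Subgroup.centralizer ({d} : Set G)))).map
      (Subgroup.centralizer ({d} : Set G)).subtype) :
    Cfsg.IsElementaryAbelian 2 A ∧ Nat.card A = 2 ^ 11 ∧ Set.ncard {x : G | x ∈ A ∧ IsConj d x} = 23 ∧
      ∀ x ∈ A, ∀ y ∈ A, IsConj d x → IsConj d y → ∃ n ∈ Subgroup.normalizer (A : Set G), n * x * n⁻¹ = y :=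
  let ⟨h1, h2, h3, h4, _⟩ := cover_thompson_full S hF hM hd hsurj hπ hperf hsq hnwc P A hA
  ⟨h1, h2, h3, h4⟩

end CfsgLib.M22
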