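import Cfsg.Agent.Lib.ThreeTransp.Cover.M22Double
import Cfsg.Agent.Lib.ThreeTransp.M22Factor

/-!
# Preferred lifts of members in a double cover of a group of type `M(22)`

The two lifts of a member are not conjugate, so a class of lifts selects one lift of every member.
-/

set_option autoImplicit false

namespace CfsgLib.M22

open CfsgLib.ThreeTransp CfsgLib.SporMisc

variable {G : Type*} [Group G] {D : Set G}
variable [Finite G] (S : Setup D) {F : Type} [Field F] [Fintype F] (hF : Fintype.card F = 2 ^ 2)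
  (hM : ∀ a ∈ D, Nonempty (Model D a F))
variable {H : Type*} [Group H] {π : H →* G} {z : H} (hsurj : Function.Surjective π)
  (hker : ∀ h, π h = 1 → h = 1 ∨ h = z) (hπz : π z = 1) (hcz : ∀ h, Commute z h) (hzz : z * z = 1)
include S hF hM hsurj hker hπz hcz hzz

/-- An element mapping into the centraliser of a member centralises its lifts. -/
theorem commute_lift_of_cent {a : G} (ha : a ∈ D) {T k : H} (hT : π T = a) (hk : Commute (π k) a) :
    Commute T k := by
  have hmem : π k ∈ Subgroup.closure (link D a) := by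
    rw [← centralizer_eq S hF hM ha]; exact Subgroup.mem_centralizer_singleton_iff.2 hk.eq
  suffices h : ∀ x ∈ Subgroup.closure (link D a), ∀ k : H, π k = x → Commute T k from h _ hmem k rfl
  intro x hx
  induction hx using Subgroup.closure_induction with
  | mem y hy => exact fun k hk => commute_lift S hF hM hsurj hker hπz hcz hzz ha hy.1 hy.2.2 hT hk
  | one =>
    intro k hk
    rcases hker k hk with rfl | rfl
    exacts [Commute.one_right T, (hcz T).symm]
  | mul u v _ _ i1 i2 =>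
    intro k hk
    obtain ⟨U, hU⟩ := hsurj u
    have h2 := i2 (U⁻¹ * k) (by rw [map_mul, map_inv, hU, hk, inv_mul_cancel_left])
    have := (i1 U hU).mul_right h2
    rwa [mul_inv_cancel_left] at this
  | inv u _ i1 =>
    intro k hk
    have := (i1 k⁻¹ (by rw [map_inv, hk, inv_inv])).inv_right
    rwa [inv_inv] at this

/-- The two lifts of a member are not conjugate. -/
theorem not_conj_mul (hz1 : z ≠ 1) {a : G} (ha : a ∈ D) {T : H} (hT : π T = a) : ¬ IsConj T (T * z) := by
  intro h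
  obtain ⟨k, hk⟩ := isConj_iff.1 h
  apply hz1
  have hc : Commute (π k) a := by
    have := congrArg π hk
    rw [map_mul, map_mul, map_mul, map_inv, hT, hπz, mul_one, mul_inv_eq_iff_eq_mul] at this
    exact this
  have := commute_lift_of_cent S hF hM hsurj hker hπz hcz hzz ha hT hc
  rw [← this.eq, mul_inv_cancel_right] at hk
  exact (left_eq_mul.1 hk)

variable {T₀ : H} (hT₀ : π T₀ ∈ D)
include hT₀

omit hF hM hsurj hker hπz hcz hzz in
theorem pref_mem {X : H} (hX : IsConj T₀ X) : π X ∈ D := by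
  obtain ⟨k, rfl⟩ := isConj_iff.1 hX
  rw [map_mul, map_mul, map_inv]
  exact S.tt.conj _ _ hT₀

theorem pref_unique (hz1 : z ≠ 1) {X Y : H} (hX : IsConj T₀ X) (hY : IsConj T₀ Y) (h : π X = π Y) : X = Y := by
  rcases lift_eq_or hker hπz hcz h with e | e
  · exact e.symm
  · exact absurd (e ▸ hX.symm.trans hY) (not_conj_mul S hF hM hsurj hker hπz hcz hzz hz1 (pref_mem S hT₀ hX) rfl)

omit hF hM hker hπz hcz hzz in
theorem exists_pref {a : G} (ha : a ∈ D) : ∃ X, IsConj T₀ X ∧ π X = a := by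
  obtain ⟨g, hg⟩ := S.cls hT₀ ha
  obtain ⟨k, rfl⟩ := hsurj g
  exact ⟨k * T₀ * k⁻¹, isConj_iff.2 ⟨k, rfl⟩, by rw [map_mul, map_mul, map_inv, hg]⟩

theorem pref_sq {X : H} (hX : IsConj T₀ X) : X * X = 1 :=
  sq_lift S hF hM hsurj hker hπz hcz hzz (pref_mem S hT₀ hX) rfl

theorem pref_commute {X Y : H} (hX : IsConj T₀ X) (hY : IsConj T₀ Y) (h : Commute (π X) (π Y)) : Commute X Y :=
  commute_lift S hF hM hsurj hker hπz hcz hzz (pref_mem S hT₀ hX) (pref_mem S hT₀ hY) h rfl rfl

theorem pref_braid (hz1 : z ≠ 1) {X Y : H} (hX : IsConj T₀ X) (hY : IsConj T₀ Y)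
    (h : π X * π Y * π X = π Y * π X * π Y) : X * Y * X = Y * X * Y := by
  have hx := inv_eq_of_mul_eq_one_right (pref_sq S hF hM hsurj hker hπz hcz hzz hT₀ hX)
  have hy := inv_eq_of_mul_eq_one_right (pref_sq S hF hM hsurj hker hπz hcz hzz hT₀ hY)
  refine pref_unique S hF hM hsurj hker hπz hcz hzz hT₀ hz1 (hY.trans (isConj_iff.2 ⟨X, by rw [hx]⟩))
    (hX.trans (isConj_iff.2 ⟨Y, by rw [hy]⟩)) ?_
  simpa [map_mul] using h

/-- An element whose image squares to one squares to one. -/
theorem sq_eq_one_of_image {h : H} (hh : π h * π h = 1) : h * h = 1 := by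
  by_cases h1 : π h = 1
  · rcases hker h h1 with rfl | rfl
    exacts [one_mul 1, hzz]
  · obtain ⟨k, hk, hk2⟩ := exists_lift S hF hM hsurj hker hπz hcz hzz
      (orderOf_eq_prime (p := 2) (by rw [pow_two, hh]) h1)
    have hkk : k * k = 1 := by rw [← pow_two, ← hk2, pow_orderOf_eq_one]
    rcases lift_eq_or hker hπz hcz hk with rfl | rfl
    · exact hkk
    · rw [(hcz k).mul_mul_mul_comm, hkk, hzz, one_mul]

/-- Three preferred lifts commuting downstairs: either a triple, or their product is a preferred lift. -/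
theorem pref_triple_cases (hz1 : z ≠ 1) {X Y W : H} (hX : IsConj T₀ X) (hY : IsConj T₀ Y) (hW : IsConj T₀ W)
    (cxy : Commute (π X) (π Y)) (cxw : Commute (π X) (π W)) (cyw : Commute (π Y) (π W)) :
    Tri D (π X) (π Y) (π W) ∨ ∃ Q, IsConj T₀ Q ∧ X * Y * W = Q := by
  have u := @pref_unique _ _ _ _ S _ _ _ hF hM _ _ _ _ hsurj hker hπz hcz hzz _ hT₀ hz1
  have sq := @pref_sq _ _ _ _ S _ _ _ hF hM _ _ _ _ hsurj hker hπz hcz hzz _ hT₀
  by_cases h1 : π X = π Y
  · exact Or.inr ⟨W, hW, by rw [← u hX hY h1, sq hX, one_mul]⟩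
  by_cases h2 : π X = π W
  · refine Or.inr ⟨Y, hY, ?_⟩
    rw [← u hX hW h2, (pref_commute S hF hM hsurj hker hπz hcz hzz hT₀ hX hY cxy).eq, mul_assoc, sq hX, mul_one]
  by_cases h3 : π Y = π W
  · exact Or.inr ⟨X, hX, by rw [← u hY hW h3, mul_assoc, sq hY, mul_one]⟩
  exact Or.inl ⟨pref_mem S hT₀ hX, pref_mem S hT₀ hY, pref_mem S hT₀ hW, h1, h2, h3, cxy, cxw, cyw⟩

end CfsgLib.M22
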