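import Cfsg.Agent.Lib.ThreeTransp.CoverSign.M22Pref
import Cfsg.Agent.Lib.ThreeTransp.CoverSign.CoxData
import Cfsg.Agent.Lib.ThreeTransp.M22Y332.Iso
import Cfsg.Agent.Lib.ThreeTransp.M22Classes

/-!
# The sign of a double cover of a group of type `M(22)`

In a perfect double cover two triples with one product have preferred lifts whose products differ by the
central involution: otherwise the presentation of `Fi₂₂` would lift and the cover would split.
-/

set_option autoImplicit false
set_option maxRecDepth 10000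

namespace CfsgLib.M22

open CfsgLib.ThreeTransp CfsgLib.SporMisc CfsgLib.CoxMoves
open Cfsg.Spor
open scoped commutatorElement

theorem genIx_lt (x : Fi22.Gen) : Fi22P.genIx x < 9 := Fi22P.fi_ok.ix_lt x

theorem coxLabel_edge : ∀ x y : Fi22.Gen, coxLabel Fi22.edges x y =
    if Fi22P.genIx x = Fi22P.genIx y then 1 else if edge (Fi22P.genIx x) (Fi22P.genIx y) = true then 3 else 2 := by
  intro x y
  cases x <;> cases y <;> rfl

/-- A homomorphism on the presented group from elements satisfying the relations of the diagram. -/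
theorem exists_hom {H : Type*} [Group H] {L : ℕ → H} (R : Rels L)
    (hs : ev L [3, 2, 1, 3, 4, 5, 3, 7, 8] ^ 10 = 1) (h1 : ev L [0, 1, 2, 3, 4, 5, 7] ^ 9 = 1)
    (h2 : ev L [1, 2, 3, 4, 5, 6, 7] ^ 9 = 1) :
    ∃ φ : Cfsg.Spor.Fi22 →* H, ∀ x, φ (PresentedGroup.of x) = L (Fi22P.genIx x) := by
  have hrel : ∀ r ∈ coxRelators Fi22.edges ∪ {r | r ∈ Fi22.extra},
      FreeGroup.lift (fun x => L (Fi22P.genIx x)) r = 1 := by
    intro r hr
    rcases hr with ⟨x, -, y, -, rfl⟩ | hr
    · rw [map_pow, map_mul, FreeGroup.lift_apply_of, FreeGroup.lift_apply_of, coxLabel_edge]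
      have hx := R.sq _ (genIx_lt x)
      have hy := R.sq _ (genIx_lt y)
      split
      · next h => rw [h, pow_one, hy]
      · next hne =>
        split
        · next h =>
          have := R.braid _ (genIx_lt x) _ (genIx_lt y) h
          rw [show (L (Fi22P.genIx x) * L (Fi22P.genIx y)) ^ 3 = L (Fi22P.genIx x) * L (Fi22P.genIx y) *
            L (Fi22P.genIx x) * (L (Fi22P.genIx y) * L (Fi22P.genIx x) * L (Fi22P.genIx y)) by
              simp [pow_succ, mul_assoc], ← this]
          simp only [mul_assoc]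
          rw [← mul_assoc (L (Fi22P.genIx x)) (L (Fi22P.genIx x)), hx, one_mul,
            ← mul_assoc (L (Fi22P.genIx y)) (L (Fi22P.genIx y)), hy, one_mul, hx]
        · next h =>
          have hc : Commute (L (Fi22P.genIx x)) (L (Fi22P.genIx y)) :=
            R.comm _ (genIx_lt x) _ (genIx_lt y) hne (Bool.eq_false_iff.2 h)
          rw [hc.mul_pow, pow_two, pow_two, hx, hy, one_mul]
    · simp only [Fi22.extra, List.mem_cons, List.not_mem_nil, or_false, Set.mem_ofPred_eq] at hr
      rcases hr with rfl | rfl | rfl <;>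
        simp only [map_mul, map_pow, FreeGroup.lift_apply_of, Fi22P.genIx]
      · simpa [ev, mul_assoc] using hs
      · simpa [ev, mul_assoc] using h1
      · simpa [ev, mul_assoc] using h2
  exact ⟨PresentedGroup.toGroup hrel, fun x => PresentedGroup.toGroup.of hrel⟩

theorem ev_map {H K : Type*} [Group H] [Group K] (f : H →* K) (L : ℕ → H) (w : List ℕ) :
    f (ev L w) = ev (fun s => f (L s)) w := by
  simp [ev, map_list_prod, List.map_map, Function.comp_def]

theorem ev_congr {H : Type*} [Group H] {L M : ℕ → H} {w : List ℕ} (h : ∀ s ∈ w, L s = M s) :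
    ev L w = ev M w := congrArg List.prod (List.map_congr_left h)

theorem ev_mul_central {H : Type*} [Group H] {L : ℕ → H} {z : H} (hz : ∀ h, Commute z h) (w : List ℕ) :
    ev (fun s => L s * z) w = ev L w * z ^ w.length := by
  induction w with
  | nil => simp [ev]
  | cons s w ih =>
    rw [ev_cons, ev_cons, ih, List.length_cons, pow_succ']
    simp only [mul_assoc]
    rw [← mul_assoc z (ev L w), (hz (ev L w)).eq, mul_assoc]

/-- A palindromic word is a conjugate of its middle letter. -/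
theorem ev_palindrome {H : Type*} [Group H] {L : ℕ → H} (R : Rels L) : ∀ (u : List ℕ) (s : ℕ),
    (∀ x ∈ u, x < 9) → IsConj (L s) (ev L (u ++ s :: u.reverse))
  | [], s, _ => by
    show IsConj (L s) (L s * 1)
    rw [mul_one]
  | t :: u, s, h => by
    obtain ⟨k, hk⟩ := isConj_iff.1 (ev_palindrome R u s fun x hx => h x (List.mem_cons_of_mem _ hx))
    have ht := R.sq t (h t List.mem_cons_self)
    refine isConj_iff.2 ⟨L t * k, ?_⟩
    rw [List.cons_append, List.reverse_cons, ev_cons, ← List.cons_append, ← List.append_assoc, ev_append, ← hk,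
      ev_cons, show ev L [] = 1 from rfl, mul_one, mul_inv_rev, inv_eq_of_mul_eq_one_right ht]
    group

variable {G : Type*} [Group G] {D : Set G}
variable [Finite G] (S : Setup D) {F : Type} [Field F] [Fintype F] (hF : Fintype.card F = 2 ^ 2)
  (hM : ∀ a ∈ D, Nonempty (Model D a F))
variable {H : Type*} [Group H] {π : H →* G} {z : H} (hsurj : Function.Surjective π)
  (hker : ∀ h, π h = 1 → h = 1 ∨ h = z) (hπz : π z = 1) (hcz : ∀ h, Commute z h) (hzz : z * z = 1)
  {T₀ : H} (hT₀ : π T₀ ∈ D)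
include S hF hM hsurj hker hπz hcz hzz hT₀

/-- In a perfect double cover some triples with one product have preferred lifts with different products. -/
theorem exists_sign (hz1 : z ≠ 1) (hperf : commutator H = ⊤) :
    ∃ X Y W X' Y' W' : H, IsConj T₀ X ∧ IsConj T₀ Y ∧ IsConj T₀ W ∧ IsConj T₀ X' ∧ IsConj T₀ Y' ∧ IsConj T₀ W' ∧
      Tri D (π X) (π Y) (π W) ∧ Tri D (π X') (π Y') (π W') ∧ π (X * Y * W) = π (X' * Y' * W') ∧
      X * Y * W ≠ X' * Y' * W' := by
  classical
  by_contra hcon
  have u := @pref_unique _ _ _ _ S _ _ _ hF hM _ _ _ _ hsurj hker hπz hcz hzz _ hT₀ hz1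
  have agree : ∀ {X Y W X' Y' W' : H}, IsConj T₀ X → IsConj T₀ Y → IsConj T₀ W → IsConj T₀ X' →
      IsConj T₀ Y' → IsConj T₀ W' → Commute (π X) (π Y) → Commute (π X) (π W) → Commute (π Y) (π W) →
      Commute (π X') (π Y') → Commute (π X') (π W') → Commute (π Y') (π W') →
      π (X * Y * W) = π (X' * Y' * W') → X * Y * W = X' * Y' * W' := by
    intro X Y W X' Y' W' hX hY hW hX' hY' hW' c1 c2 c3 c1' c2' c3' he
    rcases pref_triple_cases S hF hM hsurj hker hπz hcz hzz hT₀ hz1 hX hY hW c1 c2 c3 with T | ⟨Q, hQ, e⟩ <;>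
      rcases pref_triple_cases S hF hM hsurj hker hπz hcz hzz hT₀ hz1 hX' hY' hW' c1' c2' c3' with T' | ⟨Q', hQ', e'⟩
    · by_contra hne
      exact hcon ⟨X, Y, W, X', Y', W', hX, hY, hW, hX', hY', hW', T, T', he, hne⟩
    · refine absurd ?_ (tri_notMem S hF hM T).2
      rw [← map_mul, ← map_mul, he, e']
      exact pref_mem S hT₀ hQ'
    · refine absurd ?_ (tri_notMem S hF hM T').2
      rw [← map_mul, ← map_mul, ← he, e]
      exact pref_mem S hT₀ hQ
    · rw [e, e'] at he ⊢
      exact u hQ hQ' he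
  obtain ⟨e, -, hgen⟩ := exists_fi22_iso_gen S
  set g : ℕ → G := fun s => e (Fi22P.fiGen s) with hg
  have hex : ∀ s, ∃ X : H, IsConj T₀ X ∧ (s < 9 → π X = g s) := by
    intro s
    by_cases hs : s < 9
    · obtain ⟨X, hX, hX'⟩ := exists_pref S hsurj hT₀ (hgen s hs)
      exact ⟨X, hX, fun _ => hX'⟩
    · exact ⟨T₀, IsConj.refl _, fun h => absurd h hs⟩
  choose L hL hLπ using hex
  -- the relations downstairs
  have hcox : ∀ s, s < 9 → ∀ t, t < 9 → (g s * g t) ^ (if s = t then 1 else if edge s t = true then 3 else 2) = 1 := by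
    intro s hs t ht
    have h := PresCert.CoxData.cox_one (P := Fi22P.fiData) (Fi22P.fi_ok.node s hs) (Fi22P.fi_ok.node t ht)
    have hl := coxLabel_edge (Fi22P.fiData.at'.getD s Fi22P.fiData.dflt) (Fi22P.fiData.at'.getD t Fi22P.fiData.dflt)
    simp only [Fi22P.fi_ok.ix_at s hs, Fi22P.fi_ok.ix_at t ht,
      show Fi22P.genIx (Fi22P.fiData.at'.getD s Fi22P.fiData.dflt) = s from Fi22P.fi_ok.ix_at s hs,
      show Fi22P.genIx (Fi22P.fiData.at'.getD t Fi22P.fiData.dflt) = t from Fi22P.fi_ok.ix_at t ht] at hl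
    rw [hl] at h
    simp only [hg]
    rw [← map_mul, ← map_pow]
    exact (congrArg e h).trans (map_one e)
  have gsq : ∀ s, s < 9 → g s * g s = 1 := fun s hs => by simpa using hcox s hs s hs
  have R : Rels L := by
    refine ⟨fun s _ => pref_sq S hF hM hsurj hker hπz hcz hzz hT₀ (hL s), fun s hs t ht hne hed => ?_,
      fun s hs t ht hed => pref_braid S hF hM hsurj hker hπz hcz hzz hT₀ hz1 (hL s) (hL t) ?_⟩
    · refine (pref_commute S hF hM hsurj hker hπz hcz hzz hT₀ (hL s) (hL t) ?_).eq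
      rw [hLπ s hs, hLπ t ht]
      have h := hcox s hs t ht
      rw [if_neg hne, if_neg (by simp [hed]), pow_two] at h
      have := inv_eq_of_mul_eq_one_right h
      rw [mul_inv_rev, inv_eq_of_mul_eq_one_right (gsq s hs), inv_eq_of_mul_eq_one_right (gsq t ht)] at this
      exact this.symm
    · have hne : s ≠ t := by rintro rfl; revert hed; revert hs; revert s; decide
      rw [hLπ s hs, hLπ t ht]
      have h := hcox s hs t ht
      rw [if_neg hne, if_pos hed, show (g s * g t) ^ 3 = g s * g t * g s * (g t * g s * g t) by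
        simp [pow_succ, mul_assoc]] at h
      rw [eq_inv_of_mul_eq_one_left h]
      simp [inv_eq_of_mul_eq_one_right (gsq s hs), inv_eq_of_mul_eq_one_right (gsq t ht), mul_assoc]
  -- the two ninth powers
  have hrel : ∀ {r : FreeGroup Fi22.Gen}, r ∈ Fi22.extra → e (PresentedGroup.mk _ r) = 1 := fun {r} hr =>
    (congrArg e (PresCert.CoxData.relList_one (P := Fi22P.fiData) (PresCert.CoxData.relList_mem.2 (Or.inr hr)))).trans
      (map_one e)
  have hg0 : ∀ x, e (PresentedGroup.of x) = g (Fi22P.genIx x) := fun x => by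
    rw [hg]; exact congrArg e (PresCert.CoxData.gen_ix Fi22P.fi_ok x).symm
  have hπev : ∀ w : List ℕ, (∀ x ∈ w, x < 9) → π (ev L w) = ev g w := fun w hw => by
    rw [ev_map]; exact ev_congr fun s hs => hLπ s (hw s hs)
  have himg : π (ev L [3, 2, 1, 3, 4, 5, 3, 7, 8]) ^ 10 = 1 ∧ π (ev L [0, 1, 2, 3, 4, 5, 7]) ^ 9 = 1 ∧
      π (ev L [1, 2, 3, 4, 5, 6, 7]) ^ 9 = 1 := by
    have r1 := hrel (r := (Fi22.d * Fi22.c * Fi22.b * Fi22.d * Fi22.e * Fi22.f * Fi22.d * Fi22.h * Fi22.i) ^ 10)
      (by simp [Fi22.extra])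
    have r2 := hrel (r := (Fi22.a * Fi22.b * Fi22.c * Fi22.d * Fi22.e * Fi22.f * Fi22.h) ^ 9)
      (by simp [Fi22.extra])
    have r3 := hrel (r := (Fi22.b * Fi22.c * Fi22.d * Fi22.e * Fi22.f * Fi22.g * Fi22.h) ^ 9)
      (by simp [Fi22.extra])
    simp only [map_pow, map_mul, Fi22.a, Fi22.b, Fi22.c, Fi22.d, Fi22.e, Fi22.f, Fi22.g, Fi22.h, Fi22.i,
      show ∀ x : Fi22.Gen, PresentedGroup.mk _ (FreeGroup.of x) = (PresentedGroup.of x : Cfsg.Spor.Fi22) from
        fun _ => rfl, hg0, Fi22P.genIx] at r1 r2 r3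
    refine ⟨?_, ?_, ?_⟩
    · rw [hπev _ (by decide)]; simpa [ev, mul_assoc] using r1
    · rw [hπev _ (by decide)]; simpa [ev, mul_assoc] using r2
    · rw [hπev _ (by decide)]; simpa [ev, mul_assoc] using r3
  have pref : ∀ w : List ℕ, w = w.take (w.length / 2) ++ w.getD (w.length / 2) 0 :: (w.take (w.length / 2)).reverse →
      (∀ x ∈ w, x < 9) → IsConj T₀ (ev L w) := by
    intro w hw hlt
    rw [hw]
    exact (hL _).trans (ev_palindrome R _ _ fun x hx => hlt x (List.mem_of_mem_take hx))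
  have cm : ∀ {u v : List ℕ} {f n m : ℕ}, joins f (u ++ v) (v ++ u) n m = true →
      Commute (π (ev L u)) (π (ev L v)) := fun {u v f n m} h => by
    have := congrArg π (ev_eq_of_joins R h)
    rw [ev_append, ev_append, map_mul, map_mul] at this
    exact this
  have e1 := ev_eq_of_joins R nineOne_joins
  have e2 := ev_eq_of_joins R nineTwo_joins
  rw [ev_append, ev_append, ev_append] at e1 e2
  have n1 : ev L [0, 1, 2, 3, 4, 5, 7] ^ 9 = ev L quadWord * (ev L refOne0 * ev L refOne1 * ev L refOne2) := by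
    rw [← e1]; simp [ev, pow_succ, mul_assoc]
  have n2 : ev L [1, 2, 3, 4, 5, 6, 7] ^ 9 = ev L quadWord * (ev L refTwo0 * ev L refTwo1 * ev L refTwo2) := by
    rw [← e2]; simp [ev, pow_succ, mul_assoc]
  have heq : ev L refOne0 * ev L refOne1 * ev L refOne2 = ev L refTwo0 * ev L refTwo1 * ev L refTwo2 := by
    refine agree (pref _ (by decide) (by decide)) (pref _ (by decide) (by decide)) (pref _ (by decide) (by decide))
      (pref _ (by decide) (by decide)) (pref _ (by decide) (by decide)) (pref _ (by decide) (by decide))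
      (cm commOne01_joins) (cm commOne02_joins) (cm commOne12_joins) (cm commTwo01_joins) (cm commTwo02_joins)
      (cm commTwo12_joins) (mul_left_cancel (a := π (ev L quadWord)) ?_)
    rw [← map_mul, ← map_mul, ← n1, ← n2, map_pow, map_pow, himg.2.1, himg.2.2]
  rw [← heq] at n2
  -- choose the class in which both ninth powers vanish
  obtain ⟨L', R', hL', h1, h2⟩ : ∃ L' : ℕ → H, Rels L' ∧ (∀ s, s < 9 → π (L' s) = g s) ∧
      ev L' [0, 1, 2, 3, 4, 5, 7] ^ 9 = 1 ∧ ev L' [1, 2, 3, 4, 5, 6, 7] ^ 9 = 1 := by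
    rcases hker _ (by rw [map_pow, himg.2.1]) with h | h
    · exact ⟨L, R, hLπ, h, by rw [n2, ← n1, h]⟩
    · refine ⟨fun s => L s * z, ⟨fun s hs => ?_, fun s hs t ht hne hed => ?_, fun s hs t ht hed => ?_⟩,
        fun s hs => by rw [map_mul, hπz, mul_one, hLπ s hs], ?_, ?_⟩
      · rw [(hcz _).mul_mul_mul_comm, R.sq s hs, hzz, one_mul]
      · rw [(hcz _).mul_mul_mul_comm, R.comm s hs t ht hne hed, (hcz (L s)).mul_mul_mul_comm]
      · rw [(hcz _).mul_mul_mul_comm, hzz, mul_one, (hcz _).mul_mul_mul_comm (L t) z, hzz, mul_one,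
          ← mul_assoc, R.braid s hs t ht hed, ← mul_assoc]
      all_goals
        rw [ev_mul_central hcz, ((hcz _).pow_left _).symm.mul_pow]
      · rw [h]
        simp [pow_succ, hzz]
      · rw [n2, ← n1, h]
        simp [pow_succ, hzz]
  have hs : ev L' [3, 2, 1, 3, 4, 5, 3, 7, 8] ^ 10 = 1 := by
    rw [show (10 : ℕ) = 5 * 2 from rfl, pow_mul, pow_two]
    refine sq_eq_one_of_image S hF hM hsurj hker hπz hcz hzz hT₀ ?_
    rw [map_pow, ← pow_two, ← pow_mul, ev_map, ev_congr (M := g) fun s hs' => hL' s ?_,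
      ← hπev _ (by decide)]
    · exact himg.1
    · revert s; decide
  obtain ⟨φ, hφ⟩ := exists_hom R' hs h1 h2
  have hπφ : π.comp φ = e.toMonoidHom := by
    refine PresentedGroup.ext fun x => ?_
    show π (φ (PresentedGroup.of x)) = e (PresentedGroup.of x)
    rw [hφ, hL' _ (genIx_lt x), hg0]
  -- the image is a complement of the kernel
  have hsplit : ∀ h : H, ∃ r ∈ φ.range, h = r ∨ h = r * z := fun h => by
    refine ⟨φ (e.symm (π h)), ⟨_, rfl⟩, ?_⟩
    exact lift_eq_or hker hπz hcz ((DFunLike.congr_fun hπφ _).trans (e.apply_symm_apply _))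
  have hzR : z ∈ φ.range := by
    have hle : commutator H ≤ φ.range := by
      rw [commutator_eq_closure, Subgroup.closure_le]
      rintro _ ⟨p, q, rfl⟩
      obtain ⟨r, hr, h1⟩ := hsplit p
      obtain ⟨r', hr', h2⟩ := hsplit q
      have key : ⁅p, q⁆ = ⁅r, r'⁆ := by
        have hcz' : ∀ {x y : H}, ⁅x * z, y⁆ = ⁅x, y⁆ ∧ ⁅x, y * z⁆ = ⁅x, y⁆ := fun {x y} => by
          constructor
          · rw [commutatorElement_def, commutatorElement_def, mul_assoc x z y, (hcz y).eq]; group
          · rw [commutatorElement_def, commutatorElement_def, ← mul_assoc x y z, mul_assoc (x * y) z,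
              (hcz x⁻¹).eq]; group
        rcases h1 with h1 | h1 <;> rcases h2 with h2 | h2 <;> rw [h1, h2]
        · exact hcz'.2
        · exact hcz'.1
        · rw [hcz'.1, hcz'.2]
      show ⁅p, q⁆ ∈ φ.range
      rw [key, commutatorElement_def]
      exact mul_mem (mul_mem (mul_mem hr hr') (inv_mem hr)) (inv_mem hr')
    exact hle (hperf ▸ Subgroup.mem_top z)
  obtain ⟨x, hx⟩ := hzR
  have : e x = 1 := by rw [← hπz, ← hx]; exact (DFunLike.congr_fun hπφ x).symm
  rw [e.map_eq_one_iff] at this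
  exact hz1 (by rw [← hx, this, map_one])

end CfsgLib.M22
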