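import Cfsg.Agent.Lib.ThreeTransp.CoverSign.M22Sign
import Cfsg.Agent.Lib.ThreeTransp.M22PairQuot
import Cfsg.Agent.Lib.ThreeTransp.M22Triples

/-!
# Lifts of products of two commuting members are squares

In a perfect double cover of a group of type `M(22)` both lifts of a product of two commuting members are
squares: one is `(T S)²` for an involution `S` exchanging the members, the other is a commutator of two lifts
from the kernel of the lines.
-/

set_option autoImplicit false

namespace CfsgLib.M22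

open CfsgLib.ThreeTransp CfsgLib.SporMisc

variable {G : Type*} [Group G] {D : Set G}

theorem SameTri.exists_perm {H : Type*} [Group H] {π : H →* G} {X Y W P Q R : H}
    (h : SameTri (π X) (π Y) (π W) (π P) (π Q) (π R)) (T : Tri D (π X) (π Y) (π W))
    (T' : Tri D (π P) (π Q) (π R)) (uni : ∀ x ∈ [X, Y, W], ∀ y ∈ [P, Q, R], π x = π y → x = y) :
    [X, Y, W].Perm [P, Q, R] := by
  have d1 : [X, Y, W].Nodup := by
    simp only [List.nodup_cons, List.mem_cons, List.not_mem_nil, or_false, not_or, List.nodup_nil,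
      not_false_eq_true, and_true]
    exact ⟨⟨fun e => T.ab (congrArg π e), fun e => T.ac (congrArg π e)⟩, fun e => T.bc (congrArg π e)⟩
  refine (d1.subperm fun x hx => ?_).perm_of_length_le le_rfl
  have hx' : π x ∈ [π X, π Y, π W] := by
    simpa using List.mem_map_of_mem (f := π) hx
  have hy := (h _).1 hx'
  obtain ⟨y, hy, e⟩ : ∃ y ∈ [P, Q, R], π y = π x := by
    simp only [List.mem_cons, List.not_mem_nil, or_false] at hy
    rcases hy with e | e | e
    exacts [⟨P, by simp, e.symm⟩, ⟨Q, by simp, e.symm⟩, ⟨R, by simp, e.symm⟩]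
  exact (uni x hx y hy e.symm) ▸ hy

variable [Finite G] (S : Setup D) {F : Type} [Field F] [Fintype F] (hF : Fintype.card F = 2 ^ 2)
  (hM : ∀ a ∈ D, Nonempty (Model D a F))
variable {H : Type*} [Group H] {π : H →* G} {z : H} (hsurj : Function.Surjective π)
  (hker : ∀ h, π h = 1 → h = 1 ∨ h = z) (hπz : π z = 1) (hcz : ∀ h, Commute z h) (hzz : z * z = 1)
  {T₀ : H} (hT₀ : π T₀ ∈ D)
include S hF hM hsurj hker hπz hcz hzz hT₀

/-- Two triples with one product and without a common factor: the products of their preferred lifts differ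
by the central involution. -/
theorem sign_partner (hz1 : z ≠ 1) (hperf : commutator H = ⊤) {X Y W P Q R : H}
    (hX : IsConj T₀ X) (hY : IsConj T₀ Y) (hW : IsConj T₀ W) (hP : IsConj T₀ P) (hQ : IsConj T₀ Q)
    (hR : IsConj T₀ R) (T : Tri D (π X) (π Y) (π W)) (T' : Tri D (π P) (π Q) (π R))
    (he : π (X * Y * W) = π (P * Q * R)) (hne : ¬ SameTri (π P) (π Q) (π R) (π X) (π Y) (π W)) :
    P * Q * R = X * Y * W * z := by
  obtain ⟨A, B, C, A', B', C', hA, hB, hC, hA', hB', hC', U, U', hU, hUne⟩ :=
    exists_sign S hF hM hsurj hker hπz hcz hzz hT₀ hz1 hperf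
  obtain ⟨g, ga, gb, gc⟩ := tri_conj S hF hM U T
  obtain ⟨k, rfl⟩ := hsurj g
  have u := @pref_unique _ _ _ _ S _ _ _ hF hM _ _ _ _ hsurj hker hπz hcz hzz _ hT₀ hz1
  have cj : ∀ {A : H}, IsConj T₀ A → IsConj T₀ (k * A * k⁻¹) := fun h => h.trans (isConj_iff.2 ⟨k, rfl⟩)
  have ek : ∀ A : H, π (k * A * k⁻¹) = π k * π A * (π k)⁻¹ := fun A => by rw [map_mul, map_mul, map_inv]
  have ea : k * A * k⁻¹ = X := u (cj hA) hX ((ek A).trans ga)
  have eb : k * B * k⁻¹ = Y := u (cj hB) hY ((ek B).trans gb)
  have ec : k * C * k⁻¹ = W := u (cj hC) hW ((ek C).trans gc)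
  set A₁ := k * A' * k⁻¹ with hA₁
  set B₁ := k * B' * k⁻¹ with hB₁
  set C₁ := k * C' * k⁻¹ with hC₁
  have hprod : A₁ * B₁ * C₁ = k * (A' * B' * C') * k⁻¹ := by rw [hA₁, hB₁, hC₁]; group
  have hXYW : X * Y * W = k * (A * B * C) * k⁻¹ := by rw [← ea, ← eb, ← ec]; group
  have V : Tri D (π A₁) (π B₁) (π C₁) := by
    have hc : ∀ {x y : G}, Commute x y → Commute (π k * x * (π k)⁻¹) (π k * y * (π k)⁻¹) :=
      fun e => (Commute.conj_iff _).2 e
    rw [hA₁, hB₁, hC₁, ek, ek, ek]
    exact ⟨S.tt.conj _ _ U'.ha, S.tt.conj _ _ U'.hb, S.tt.conj _ _ U'.hc, by simpa using U'.ab,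
      by simpa using U'.ac, by simpa using U'.bc, hc U'.cab, hc U'.cac, hc U'.cbc⟩
  have hneg : A₁ * B₁ * C₁ = X * Y * W * z := by
    rcases lift_eq_or hker hπz hcz (show π (X * Y * W) = π (A₁ * B₁ * C₁) by
      rw [hprod, hXYW, ek, ek, hU]) with e | e
    · refine absurd ?_ hUne
      rw [hprod, hXYW] at e
      exact (mul_left_cancel (mul_right_cancel e)).symm
    · exact e
  have perm : ∀ {X Y W P Q R : H}, IsConj T₀ X → IsConj T₀ Y → IsConj T₀ W → IsConj T₀ P → IsConj T₀ Q →
      IsConj T₀ R → Tri D (π X) (π Y) (π W) → Tri D (π P) (π Q) (π R) →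
      SameTri (π X) (π Y) (π W) (π P) (π Q) (π R) → X * Y * W = P * Q * R := by
    intro X Y W P Q R hX hY hW hP hQ hR T T' h
    have pref : ∀ x ∈ [X, Y, W], IsConj T₀ x := by
      intro x hx
      simp only [List.mem_cons, List.not_mem_nil, or_false] at hx
      rcases hx with rfl | rfl | rfl <;> assumption
    have pref' : ∀ x ∈ [P, Q, R], IsConj T₀ x := by
      intro x hx
      simp only [List.mem_cons, List.not_mem_nil, or_false] at hx
      rcases hx with rfl | rfl | rfl <;> assumption
    have := (h.exists_perm T T' fun x hx y hy => u (pref x hx) (pref' y hy)).prod_eq'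
      (List.pairwise_of_forall_mem_list fun x hx y hy => pref_commute S hF hM hsurj hker hπz hcz hzz hT₀
        (pref x hx) (pref y hy) (by
          simp only [List.mem_cons, List.not_mem_nil, or_false] at hx hy
          rcases hx with rfl | rfl | rfl <;> rcases hy with rfl | rfl | rfl <;>
            first
              | exact Commute.refl _
              | exact T.cab
              | exact T.cab.symm
              | exact T.cac
              | exact T.cac.symm
              | exact T.cbc
              | exact T.cbc.symm))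
    simpa [mul_assoc] using this
  obtain ⟨p, q, r, -, -, -, hall⟩ := exists_partner_triple S hF hM T
  have e1 : π P * π Q * π R = π X * π Y * π W := by simpa only [map_mul] using he.symm
  have e2 : π A₁ * π B₁ * π C₁ = π X * π Y * π W := by
    rw [← map_mul, ← map_mul, ← map_mul, ← map_mul, hneg, map_mul _ _ z, hπz, mul_one]
  rcases hall _ _ _ V e2 with h | h
  · exfalso
    have := perm (cj hA') (cj hB') (cj hC') hX hY hW V T h
    rw [← hA₁, ← hB₁, ← hC₁, hneg] at this
    exact hz1 (mul_eq_left.1 this)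
  · have h' := (hall _ _ _ T' e1).resolve_left hne
    rw [← hneg]
    exact perm hP hQ hR (cj hA') (cj hB') (cj hC') T' V fun x => (h' x).trans (h x).symm

/-- Both lifts of a product of two commuting members are squares. -/
theorem pair_lift_square (hz1 : z ≠ 1) (hperf : commutator H = ⊤) {a b : G} (ha : a ∈ D) (hb : b ∈ link D a)
    {h : H} (hh : π h = a * b) : ∃ k : H, k * k = h := by
  have u := @pref_unique _ _ _ _ S _ _ _ hF hM _ _ _ _ hsurj hker hπz hcz hzz _ hT₀ hz1
  have pc := @pref_commute _ _ _ _ S _ _ _ hF hM _ _ _ _ hsurj hker hπz hcz hzz _ hT₀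
  have psq := @pref_sq _ _ _ _ S _ _ _ hF hM _ _ _ _ hsurj hker hπz hcz hzz _ hT₀
  have pinv : ∀ {X : H}, IsConj T₀ X → X⁻¹ = X := fun hX => inv_eq_of_mul_eq_one_right (psq hX)
  obtain ⟨T, hT, rfl⟩ := exists_pref S hsurj hT₀ ha
  obtain ⟨U, hU, rfl⟩ := exists_pref S hsurj hT₀ hb.1
  obtain ⟨c, d, p, q, r, -, hfive, -, -⟩ := exists_five_avoid S hF hM ha hb
  have hcommon : c ∈ link D (π T) ∩ link D (π U) := hfive c (by simp)
  rcases lift_eq_or hker hπz hcz (show π (T * U) = π h by rw [map_mul, hh]) with rfl | rfl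
  · -- the exchange of the pair
    obtain ⟨c', d', hc', hd', hcd, -, -, -, hswap, -, -⟩ := exists_pair_exchange S hF hM ha hb hcommon
    obtain ⟨C, hC, rfl⟩ := exists_pref S hsurj hT₀ hc'
    obtain ⟨E, hE, rfl⟩ := exists_pref S hsurj hT₀ hd'
    refine ⟨T * (C * E), ?_⟩
    have hss : C * E * (C * E) = 1 := by
      rw [(pc hE hC hcd.symm).mul_mul_mul_comm, psq hC, psq hE, one_mul]
    have hsU : C * E * T * (C * E)⁻¹ = U := u (hT.trans (isConj_iff.2 ⟨C * E, rfl⟩)) hU (by
      rw [map_mul, map_mul, map_inv, map_mul]; exact hswap)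
    rw [inv_eq_of_mul_eq_one_right hss] at hsU
    rw [← hsU]; group
  · -- a commutator from the kernel of the lines
    set a := π T with ha'
    set b := π U with hb'
    obtain ⟨x₀, hx₀, e, he, f, hf, hne1⟩ : ∃ x₀, (∃ e' ∈ link D a ∩ link D b, ∃ f', SameLine D a b e' f' ∧
        x₀ = e' * f') ∧ ∃ e ∈ link D a ∩ link D b, ∃ f, SameLine D a b e f ∧
          x₀ * (e * f) * x₀⁻¹ * (e * f)⁻¹ ≠ 1 := by
      by_contra hcon
      push Not at hcon
      obtain ⟨A⟩ := hM a ha
      obtain ⟨v, hv⟩ := A.exists_pt_of_link S hF ha hb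
      obtain ⟨P⟩ := U6.exists_frame hF hv.1
      obtain ⟨l, hlen, hnd, hmem, -⟩ := exists_class_list S hF hM ha hb A hv P hcommon
      obtain ⟨f, hfl, hfc⟩ : ∃ f ∈ l, f ≠ c := by
        rcases l with _ | ⟨f₁, _ | ⟨f₂, l⟩⟩
        · simp at hlen
        · simp at hlen
        by_cases h : f₁ = c
        · exact ⟨f₂, by simp, fun e => (List.nodup_cons.1 hnd).1 (by rw [h, ← e]; simp)⟩
        · exact ⟨f₁, by simp, h⟩
      have hcf := (hmem f).1 hfl
      have hx : c * f ∈ Subgroup.closure ({a, b} : Set G) := by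
        rw [← centralizer_lineKer_inf S hF hM ha hb]
        refine ⟨mul_mem (mem_pairCent_of_link hcommon) (mem_pairCent_of_link hcf.1),
          Subgroup.mem_centralizer_iff.2 fun k hk => ?_⟩
        rw [SetLike.mem_coe, lineKer_eq S hF hM ha hb] at hk
        induction hk using Subgroup.closure_induction with
        | mem k hk =>
          rcases hk with (rfl | rfl) | ⟨e', he', f', hf', rfl⟩
          · exact (hcommon.1.2.2.mul_right hcf.1.1.2.2).eq
          · exact (hcommon.2.2.2.mul_right hcf.1.2.2.2).eq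
          · exact mul_inv_eq_iff_eq_mul.1 (mul_inv_eq_one.1 (hcon _ ⟨e', he', f', hf', rfl⟩ c hcommon f hcf))
        | one => rw [one_mul, mul_one]
        | mul p q _ _ i1 i2 => rw [mul_assoc, i2, ← mul_assoc, i1, mul_assoc]
        | inv p _ i1 => exact (Commute.inv_left (i1 : Commute p (c * f))).eq
      have hcf' : Commute c f := (show SameLine D a b c c from ⟨hcommon, fun _ _ => Iff.rfl⟩).commute hcommon hcf
      obtain ⟨e1, e2⟩ := pair_notMem S hF hM hcommon.1.1 (show f ∈ link D c from ⟨hcf.1.1.1, hfc, hcf'⟩)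
      have hab : ∀ t ∈ Subgroup.closure ({a, b} : Set G), t = 1 ∨ t = a ∨ t = b ∨ t = a * b := by
        intro t ht
        have haa := S.sqd ha
        have hbb := S.sqd hb.1
        have hba : b * a = a * b := hb.2.2.symm.eq
        have hba' : ∀ x : G, b * (a * x) = a * (b * x) := fun x => by rw [← mul_assoc, hba, mul_assoc]
        induction ht using Subgroup.closure_induction with
        | mem y hy =>
          rcases hy with rfl | rfl
          exacts [Or.inr (Or.inl rfl), Or.inr (Or.inr (Or.inl rfl))]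
        | one => exact Or.inl rfl
        | mul y w _ _ i1 i2 =>
          rcases i1 with rfl | rfl | rfl | rfl <;> rcases i2 with rfl | rfl | rfl | rfl <;>
            simp [mul_assoc, haa, hbb, hba, hba', cancel₂ haa, cancel₂ hbb]
        | inv y _ i1 =>
          rcases i1 with rfl | rfl | rfl | rfl
          · simp
          · exact Or.inr (Or.inl (S.tt.inv_eq ha))
          · exact Or.inr (Or.inr (Or.inl (S.tt.inv_eq hb.1)))
          · exact Or.inr (Or.inr (Or.inr (by rw [mul_inv_rev, S.tt.inv_eq ha, S.tt.inv_eq hb.1, hba])))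
      rcases hab _ hx with h | h | h | h
      · exact e1 h
      · exact e2 (h ▸ ha)
      · exact e2 (h ▸ hb.1)
      · rcases pair_unique S hF hM hcommon.1.1 hcf.1.1.1 ha hb.1 hfc.symm hb.2.1.symm hcf' hb.2.2 h with
          ⟨h1, -⟩ | ⟨h1, -⟩
        · exact hcommon.1.2.1 h1
        · exact hcommon.2.2.1 h1
    obtain ⟨e', he', f', hf', rfl⟩ := hx₀
    have hxL : e' * f' ∈ lineKer D S a b := mul_mem_lineKer S hF hM ha hb he' hf'
    have hfab := (conj_pair_comm S hF hM ha hb hxL he hf).resolve_left hne1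
    obtain ⟨E', hE', eE'⟩ := exists_pref S hsurj hT₀ he'.1.1
    obtain ⟨F', hF', eF'⟩ := exists_pref S hsurj hT₀ hf'.1.1.1
    obtain ⟨E, hE, eE⟩ := exists_pref S hsurj hT₀ he.1.1
    obtain ⟨K, hK, eK⟩ := exists_pref S hsurj hT₀ hf.1.1.1
    have cE'F' : Commute E' F' := pc hE' hF' (by
      rw [eE', eF']; exact (show SameLine D a b e' e' from ⟨he', fun _ _ => Iff.rfl⟩).commute he' hf')
    have ef : Commute e f := (show SameLine D a b e e from ⟨he, fun _ _ => Iff.rfl⟩).commute he hf
    set X := E' * F' with hXdef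
    have hXX : X * X = 1 := by rw [hXdef, cE'F'.symm.mul_mul_mul_comm, psq hE', psq hF', one_mul]
    have hXi : X⁻¹ = X := inv_eq_of_mul_eq_one_right hXX
    have hπX : π X = e' * f' := by rw [hXdef, map_mul, eE', eF']
    set x := e' * f' with hxdef
    have hxx : x * x = 1 := by rw [← hπX, ← map_mul, hXX, map_one]
    have hxi : x⁻¹ = x := inv_eq_of_mul_eq_one_right hxx
    have le : SameLine D a b e (x * e * x) := by simpa [hxi] using hxL.2 e he
    have lf : SameLine D a b e (x * f * x) := hf.trans (by simpa [hxi] using hxL.2 f hf.1)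
    have hprod : x * e * x * (x * f * x) * f * e = a * b := by
      rw [← hfab, mul_inv_rev e f, S.tt.inv_eq hf.1.1.1, S.tt.inv_eq he.1.1, hxi]
      simp only [mul_assoc, cancel₂ hxx]
    have n12 : e ≠ f := by
      rintro rfl
      exact hne1 (by rw [S.sqd he.1.1, mul_one, mul_inv_cancel, one_mul, inv_one])
    have dd : ∀ {p q : G}, SameLine D a b e p → SameLine D a b e q → p * q = a * b → False := by
      intro p q hp hq hpq
      by_cases hpq' : p = q
      · subst hpq'
        exact (pair_notMem S hF hM ha hb).1 (by rw [← hpq, S.sqd hp.1.1.1])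
      · rcases pair_unique S hF hM hp.1.1.1 hq.1.1.1 ha hb.1 hpq' hb.2.1.symm (hp.commute he hq) hb.2.2 hpq with
          ⟨h1, -⟩ | ⟨h1, -⟩
        · exact hp.1.1.2.1 h1
        · exact hp.1.2.2.1 h1
    have le0 : SameLine D a b e e := ⟨he, fun _ _ => Iff.rfl⟩
    have hinjc : ∀ {p q : G}, x * p * x = q → x * q * x = p := fun {p q} h => by
      rw [← h]; simp only [mul_assoc, cancel₂ hxx, hxx, mul_one]
    have n34 : x * e * x ≠ x * f * x := fun h => n12 (by simpa [mul_assoc] using mul_left_cancel (mul_right_cancel h))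
    have cef : Commute f e := ef.symm
    have c13 := le.commute he le0
    have c14 := le.commute he hf
    have c23 := lf.commute he le0
    have c24 := lf.commute he hf
    have haa := S.sqd ha
    have n31 : x * e * x ≠ e := fun h => by
      refine dd lf hf ?_
      rw [← hprod, h, show e * (x * f * x) * f * e = e * (x * f * x * f * e) by simp only [mul_assoc],
        (c23.mul_left cef).eq, cancel₂ (S.sqd he.1.1)]
    have n32 : x * e * x ≠ f := fun h => by
      apply (pair_notMem S hF hM ha hb).1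
      rw [← hprod, h, hinjc h, mul_assoc (f * e) f e, ← mul_assoc, mul_assoc f e f, ef.eq, cancel₂ (S.sqd hf.1.1.1),
        S.sqd he.1.1]
    have n41 : x * f * x ≠ e := fun h => by
      apply (pair_notMem S hF hM ha hb).1
      rw [← hprod, h, hinjc h, mul_assoc f e f, ef.eq, cancel₂ (S.sqd hf.1.1.1), S.sqd he.1.1]
    have n42 : x * f * x ≠ f := fun h => by
      refine dd le le0 ?_
      rw [← hprod, h, mul_assoc (x * e * x) f f, S.sqd hf.1.1.1, mul_one]
    -- the two triples
    set E₁ := X * E * X with hE₁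
    set K₁ := X * K * X with hK₁
    have hE₁p : IsConj T₀ E₁ := hE.trans (isConj_iff.2 ⟨X, by rw [hXi]⟩)
    have hK₁p : IsConj T₀ K₁ := hK.trans (isConj_iff.2 ⟨X, by rw [hXi]⟩)
    have eE₁ : π E₁ = x * e * x := by rw [hE₁, map_mul, map_mul, hπX, eE]
    have eK₁ : π K₁ = x * f * x := by rw [hK₁, map_mul, map_mul, hπX, eK]
    have T1 : Tri D a b (x * e * x) := ⟨ha, hb.1, le.1.1.1, hb.2.1.symm, le.1.1.2.1.symm, le.1.2.2.1.symm, hb.2.2,
      le.1.1.2.2, le.1.2.2.2⟩
    have T2 : Tri D (x * f * x) f e := ⟨lf.1.1.1, hf.1.1.1, he.1.1, n42, n41, n12.symm, c24, c23, cef⟩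
    have hsame : ¬ SameTri (x * f * x) f e a b (x * e * x) := fun h => by
      have := (h a).2 List.mem_cons_self
      simp only [List.mem_cons, List.not_mem_nil, or_false] at this
      rcases this with h | h | h
      exacts [lf.1.1.2.1 h.symm, hf.1.1.2.1 h.symm, he.1.2.1 h.symm]
    have hee : π (T * U * E₁) = π (K₁ * K * E) := by
      rw [map_mul π (T * U) E₁, map_mul π T U, map_mul π (K₁ * K) E, map_mul π K₁ K, eE₁, eK₁, eE, eK, ← ha', ← hb',
        ← hprod]
      set p := x * e * x
      set q := x * f * x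
      have hp2 : p * p = 1 := S.sqd le.1.1.1
      have hc : Commute p (q * f * e) :=
        (((le.commute he lf)).mul_right c14).mul_right c13
      rw [show p * q * f * e * p = p * (q * f * e * p) by simp only [mul_assoc], ← hc.eq, cancel₂ hp2]
    have hsign := sign_partner S hF hM hsurj hker hπz hcz hzz hT₀ hz1 hperf hT hU hE₁p hK₁p hK hE
      (eE₁ ▸ T1) (by rw [eK₁, eK, eE]; exact T2) hee (by rw [eE₁, eK₁, eK, eE]; exact hsame)
    refine ⟨X * (E * K), ?_⟩
    have cEK : Commute E K := pc hE hK (by rw [eE, eK]; exact ef)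
    have cE₁T : Commute E₁ (T * U) :=
      (pc hE₁p hT (by rw [eE₁]; exact le.1.1.2.2.symm)).mul_right
        (pc hE₁p hU (by rw [eE₁]; exact le.1.2.2.2.symm))
    calc X * (E * K) * (X * (E * K)) = X * E * (X * X) * K * (X * (E * K)) := by rw [hXX, mul_one]; group
      _ = E₁ * K₁ * (K * E) := by rw [hE₁, hK₁, cEK.symm.eq]; group
      _ = E₁ * (K₁ * K * E) := by group
      _ = E₁ * (T * U * E₁ * z) := by rw [hsign]
      _ = T * U * z := by
        rw [← mul_assoc, ← mul_assoc, cE₁T.eq, mul_assoc (T * U), psq hE₁p, mul_one]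

end CfsgLib.M22
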